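import Mathlib

/-!
A multiset of six elements `a, b, c` with `abc = 1` and their inverses which is invariant under an injective
power map: the three elements satisfy one of three equations.
-/

set_option autoImplicit false
set_option linter.unusedSimpArgs false

namespace Cfsg.Agent.Lib.G2Spectrum

variable {K : Type*} [Field K]

/-- The six eigenvalues. -/
def six (a b c : K) : Multiset K := {a, b, c, a⁻¹, b⁻¹, c⁻¹}

theorem mem_six {a b c x : K} :
    x ∈ six a b c ↔ x = a ∨ x = b ∨ x = c ∨ x = a⁻¹ ∨ x = b⁻¹ ∨ x = c⁻¹ := by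
  simp [six]

theorem six_swap₁₂ (a b c : K) : six b a c = six a b c := by
  simp only [six, Multiset.insert_eq_cons, ← Multiset.singleton_add]; abel

theorem six_swap₂₃ (a b c : K) : six a c b = six a b c := by
  simp only [six, Multiset.insert_eq_cons, ← Multiset.singleton_add]; abel

theorem six_rot (a b c : K) : six b c a = six a b c := by
  simp only [six, Multiset.insert_eq_cons, ← Multiset.singleton_add]; abel

variable {q : ℕ} (hinj : Function.Injective fun x : K => x ^ q)
include hinj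

theorem mem_pow {a b c : K} (hS : (six a b c).map (· ^ q) = six a b c) {x : K} (hx : x ∈ six a b c) :
    x ^ q ∈ six a b c := hS ▸ Multiset.mem_map_of_mem _ hx

theorem count_pow [DecidableEq K] {a b c : K} (hS : (six a b c).map (· ^ q) = six a b c) (x : K) :
    (six a b c).count (x ^ q) = (six a b c).count x := by
  conv_lhs => rw [← hS]
  exact Multiset.count_map_eq_count' _ _ hinj x

omit hinj in
theorem pow_sq_dvd {x : K} (hx : x ≠ 0) (h : x ^ (q ^ 2) = x) : x ^ (q ^ 2 - 1) = 1 := by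
  rcases Nat.eq_zero_or_pos (q ^ 2) with e | e
  · rw [e]; simp
  refine mul_right_cancel₀ hx ?_
  rw [← pow_succ, Nat.sub_add_cancel e, one_mul, h]

/-- Two equal elements: their power is one of them or its inverse. -/
theorem pow_eq_of_repeat {a b c : K} (hS : (six a b c).map (· ^ q) = six a b c) (habc : a * b * c = 1)
    (hab : a = b) : a ^ q = a ∨ a ^ q = a⁻¹ ∨ (a * a) * (a * a) = 1 := by
  classical
  subst hab
  have hc : c = (a * a)⁻¹ := eq_inv_of_mul_eq_one_right habc
  have hm := mem_pow hinj hS (x := a) (mem_six.2 (Or.inl rfl))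
  have hn := count_pow hinj hS a
  by_contra hne
  push Not at hne
  obtain ⟨h1, h2, h3⟩ := hne
  have h4 : a ^ q = c ∨ a ^ q = c⁻¹ := by
    rcases mem_six.1 hm with h | h | h | h | h | h <;> simp_all
  have hcc : c ≠ c⁻¹ := fun e => h3 (by
    have e' : (a * a)⁻¹ = a * a := by rwa [hc, inv_inv] at e
    have ha0 : a * a ≠ 0 := left_ne_zero_of_mul_eq_one habc
    exact (congrArg (fun z => z * (a * a)) e').symm.trans (inv_mul_cancel₀ ha0))
  have ha2 : 2 ≤ (six a a c).count a := by
    simp [six, Multiset.count_cons]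
  rcases h4 with h | h <;> rw [h] at hn h1 h2 <;> rw [← hn] at ha2 <;>
    simp [six, Multiset.count_cons, hcc, hcc.symm, h1, h2, Multiset.count_singleton] at ha2

/-- A square root of one among the three. -/
theorem pow_sq_of_involutive {a b c : K} (hS : (six a b c).map (· ^ q) = six a b c) (habc : a * b * c = 1)
    (ha : a * a = 1) : a ^ (q ^ 2) = a ∧ b ^ (q ^ 2) = b := by
  have hb0 : b ≠ 0 := fun e => by simp [e] at habc
  have hai : a⁻¹ = a := inv_eq_of_mul_eq_one_right ha
  have hc : c = a * b⁻¹ := by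
    rw [← hai, ← mul_inv]; exact eq_inv_of_mul_eq_one_right habc
  have hci : c⁻¹ = a * b := by rw [hc, mul_inv, inv_inv, hai]
  have h1 : a ^ q = 1 ∨ a ^ q = a := by
    rcases Nat.even_or_odd' q with ⟨k, rfl | rfl⟩
    · left; rw [pow_mul, sq, ha, one_pow]
    · right; rw [pow_succ, pow_mul, sq, ha, one_pow, one_mul]
  have haq : a ^ q = a := h1.elim (fun h => by
    have : a = 1 := hinj (show a ^ q = (1 : K) ^ q by rw [h, one_pow])
    rw [this, one_pow]) id
  refine ⟨by rw [sq, pow_mul, haq, haq], ?_⟩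
  rcases mem_six.1 (mem_pow hinj hS (x := b) (mem_six.2 (Or.inr (Or.inl rfl)))) with h | h | h | h | h | h
  · have : b = a := hinj (h.trans haq.symm)
    rw [this, sq, pow_mul, haq, haq]
  · rw [sq, pow_mul, h, h]
  · rw [hc] at h
    rw [sq, pow_mul, h, mul_pow, inv_pow, haq, h, mul_inv, inv_inv, hai, ← mul_assoc, ha, one_mul]
  · rw [hai] at h
    have : b = a := hinj (h.trans haq.symm)
    rw [this, sq, pow_mul, haq, haq]
  · rw [sq, pow_mul, h, inv_pow, h, inv_inv]
  · rw [hci] at h
    rw [sq, pow_mul, h, mul_pow, haq, h, ← mul_assoc, ha, one_mul]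

theorem exponent_cases {a b c : K} (hS : (six a b c).map (· ^ q) = six a b c) (habc : a * b * c = 1) :
    (a ^ (q ^ 2 - 1) = 1 ∧ b ^ (q ^ 2 - 1) = 1) ∨
      (a ^ (q ^ 2 + q + 1) = 1 ∧ b ^ (q ^ 2 + q + 1) = 1) ∨
      (a ^ (q ^ 2 - q + 1) = 1 ∧ b ^ (q ^ 2 - q + 1) = 1) := by
  classical
  have ha0 : a ≠ 0 := fun e => by simp [e] at habc
  have hb0 : b ≠ 0 := fun e => by simp [e] at habc
  have hc0 : c ≠ 0 := fun e => by simp [e] at habc
  have hcab : c = (a * b)⁻¹ := eq_inv_of_mul_eq_one_right habc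
  have fin : a ^ (q ^ 2) = a → b ^ (q ^ 2) = b →
      (a ^ (q ^ 2 - 1) = 1 ∧ b ^ (q ^ 2 - 1) = 1) := fun h1 h2 => ⟨pow_sq_dvd ha0 h1, pow_sq_dvd hb0 h2⟩
  have fix' : ∀ {x y : K}, x * x * y = 1 → x ^ (q ^ 2) = x → y ^ (q ^ 2) = y := fun {x y} h hx => by
    have e : y = (x * x)⁻¹ := eq_inv_of_mul_eq_one_right h
    rw [e, inv_pow, mul_pow, hx]
  have rep : ∀ {x y z : K}, six x y z = six a b c → x * y * z = 1 → x = y → x ^ (q ^ 2) = x := by
    intro x y z e h exy
    rcases pow_eq_of_repeat hinj (e ▸ hS) h exy with h' | h' | h'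
    · rw [sq, pow_mul, h', h']
    · rw [sq, pow_mul, h', inv_pow, h', inv_inv]
    · have h2 : x * x = 1 ∨ x * x = -1 := mul_self_eq_one_iff.1 h'
      rcases h2 with h2 | h2
      · exact (pow_sq_of_involutive hinj (e ▸ hS) h h2).1
      · have : (x * x) ^ q = x * x ∨ (x * x) ^ q = 1 := by
          rw [h2]
          rcases Nat.even_or_odd q with he | ho
          · right; exact he.neg_one_pow
          · left; exact ho.neg_one_pow
        have hq2 : (x * x) ^ q = x * x := this.elim id fun h3 => by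
          have h4 : x * x = 1 := hinj (h3.trans (one_pow q).symm)
          rw [h3, h4]
        rcases Nat.even_or_odd' q with ⟨k, hk | hk⟩
        · subst hk
          have h5 : (x * x) ^ (2 * k) = 1 := by rw [h2]; exact (even_two_mul k).neg_one_pow
          have h6 : x * x = 1 := hq2 ▸ h5
          exact (pow_sq_of_involutive hinj (e ▸ hS) h h6).1
        · subst hk
          obtain ⟨j, hj⟩ : ∃ j, (2 * k + 1) ^ 2 = 4 * j + 1 := ⟨k * k + k, by ring⟩
          rw [hj, pow_succ, pow_mul, show x ^ 4 = x * x * (x * x) by ring, h', one_pow, one_mul]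
  by_cases hd : [a, b, c, a⁻¹, b⁻¹, c⁻¹].Nodup
  swap
  · left
    have i1 : ∀ {x : K}, x = x⁻¹ → x ≠ 0 → x * x = 1 := fun {x} h h0 => by
      nth_rewrite 2 [h]; exact mul_inv_cancel₀ h0
    have hS2 : (six b a c).map (· ^ q) = six b a c := by rw [six_swap₁₂]; exact hS
    have hS3 : (six c a b).map (· ^ q) = six c a b := by rw [six_rot, six_rot]; exact hS
    have hb3 : b * a * c = 1 := by rw [mul_comm b a]; exact habc
    have hc3 : c * a * b = 1 := by rw [mul_assoc, mul_comm, ← habc]
    have fin' : ∀ {x y : K}, x ^ (q ^ 2) = x → y ^ (q ^ 2) = y → (x * y) ^ (q ^ 2) = x * y :=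
      fun h1 h2 => by rw [mul_pow, h1, h2]
    have ofa : a * a = 1 → _ := fun h => fin (pow_sq_of_involutive hinj hS habc h).1 (pow_sq_of_involutive hinj hS habc h).2
    have ofb : b * b = 1 → _ := fun h => fin (pow_sq_of_involutive hinj hS2 hb3 h).2 (pow_sq_of_involutive hinj hS2 hb3 h).1
    have ofc : c * c = 1 → a ^ (q ^ 2 - 1) = 1 ∧ b ^ (q ^ 2 - 1) = 1 := fun h => by
      obtain ⟨e1, e2⟩ := pow_sq_of_involutive hinj hS3 hc3 h
      refine fin e2 ?_
      have : b = (c * a)⁻¹ := eq_inv_of_mul_eq_one_right hc3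
      rw [this, inv_pow, mul_pow, e1, e2]
    simp only [List.nodup_cons, List.mem_cons, List.not_mem_nil, or_false, not_or, List.nodup_nil, and_true,
      not_and_or, not_not] at hd
    rcases hd with (h | h | h | h | h) | (h | h | h | h) | (h | h | h) | (h | h) | h
    -- the fifteen coincidences
    · have e := rep rfl habc h; exact fin e (h ▸ e)
    · have e := rep (six_swap₂₃ a b c) (by rw [mul_right_comm]; exact habc) h
      exact fin e (fix' (by nth_rewrite 2 [h]; rw [mul_right_comm]; exact habc) e)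
    · exact ofa (i1 h ha0)
    · exact ofc (by rw [show c = 1 by rw [hcab, h, inv_mul_cancel₀ hb0, inv_one], one_mul])
    · exact ofb (by rw [show b = 1 by rw [h, mul_comm _ b, mul_assoc, inv_mul_cancel₀ hc0, mul_one] at habc; exact habc, one_mul])
    · have e := rep (six_rot a b c) (by rw [mul_comm _ a, ← mul_assoc]; exact habc) h
      exact fin (fix' (by nth_rewrite 2 [h]; rw [mul_comm _ a, ← mul_assoc]; exact habc) e) e
    · exact ofc (by rw [show c = 1 by rw [hcab, h, mul_inv_cancel₀ ha0, inv_one], one_mul])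
    · exact ofb (i1 h hb0)
    · exact ofa (by rw [show a = 1 by rw [h, mul_assoc, inv_mul_cancel₀ hc0, mul_one] at habc; exact habc, one_mul])
    all_goals first
      | exact absurd h (not_not.2 rfl)
      | exact ofc (i1 h hc0)
      | exact ofb (by rw [show b = 1 by
          have : c = a⁻¹ := h
          rw [this, mul_comm a b, mul_assoc, mul_inv_cancel₀ ha0, mul_one] at habc; exact habc, one_mul])
      | exact ofa (by rw [show a = 1 by
          have : c = b⁻¹ := h
          rw [this, mul_assoc, mul_inv_cancel₀ hb0, mul_one] at habc; exact habc, one_mul])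
      | (have h' := inv_injective h; first
          | (have e := rep rfl habc h'; exact fin e (h' ▸ e))
          | (have e := rep (six_swap₂₃ a b c) (by rw [mul_right_comm]; exact habc) h'
             exact fin e (fix' (by nth_rewrite 2 [h']; rw [mul_right_comm]; exact habc) e))
          | (have e := rep (six_rot a b c) (by rw [mul_comm _ a, ← mul_assoc]; exact habc) h'
             exact fin (fix' (by nth_rewrite 2 [h']; rw [mul_comm _ a, ← mul_assoc]; exact habc) e) e))
  have hnd := hd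
  simp only [List.nodup_cons, List.mem_cons, List.not_mem_nil, or_false, not_or, List.nodup_nil, and_true] at hnd
  have hq0 : ∀ x : K, (x⁻¹) ^ q = (x ^ q)⁻¹ := fun x => inv_pow x q
  have hcq : c ^ q = (a ^ q * b ^ q)⁻¹ := by rw [← mul_pow, ← inv_pow, ← hcab]
  have hne : a ^ q ≠ b ^ q ∧ a ^ q ≠ (b ^ q)⁻¹ :=
    ⟨fun e => hnd.1.1 (hinj e), fun e => hnd.1.2.2.2.1 (hinj (e.trans (hq0 b).symm))⟩
  have hmc : (a ^ q * b ^ q)⁻¹ ∈ six a b c := hcq ▸ mem_pow hinj hS (mem_six.2 (Or.inr (Or.inr (Or.inl rfl))))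
  have hmixed : ∀ {u w : K}, a ^ q = u → b ^ q = w⁻¹ → u ≠ 0 → w ≠ 0 →
      (∃ t, u * w * t = 1 ∧ [u, w, t, u⁻¹, w⁻¹, t⁻¹].Nodup ∧
        ((a ^ q * b ^ q)⁻¹ = u ∨ (a ^ q * b ^ q)⁻¹ = w ∨ (a ^ q * b ^ q)⁻¹ = t ∨ (a ^ q * b ^ q)⁻¹ = u⁻¹ ∨
          (a ^ q * b ^ q)⁻¹ = w⁻¹ ∨ (a ^ q * b ^ q)⁻¹ = t⁻¹)) → False := by
    intro u w e1 e2 hu0 hw0 ⟨t, hprod, hn, hcases⟩
    simp only [List.nodup_cons, List.mem_cons, List.not_mem_nil, or_false, not_or, List.nodup_nil, and_true] at hn
    rw [← hcq] at hcases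
    have ht : t = (u * w)⁻¹ := eq_inv_of_mul_eq_one_right hprod
    have hval : c ^ q = w / u := by rw [hcq, e1, e2]; field_simp
    rcases hcases with h | h | h | h | h | h
    · exact hnd.1.2.1 (hinj (e1.trans h.symm))
    · have : w / u = w := hval.symm.trans h
      rw [div_eq_iff hu0] at this
      have hu1 : u = 1 := mul_left_cancel₀ hw0 (by rw [mul_one]; exact this.symm)
      exact hn.1.2.2.1 (by rw [hu1, inv_one])
    · have : w / u = (u * w)⁻¹ := (hval.symm.trans h).trans ht
      have hw1 : w * w = 1 := by field_simp at this; linear_combination this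
      exact hn.2.1.2.2.1 (eq_inv_of_mul_eq_one_right hw1)
    · exact hnd.1.2.2.2.2 (hinj (show a ^ q = c⁻¹ ^ q by rw [hq0, h, inv_inv, e1]))
    · exact hnd.2.1.1 (hinj (e2.trans h.symm))
    · have : w / u = u * w := by rw [← hval, h, ht, inv_inv]
      have hu1 : u * u = 1 := by
        field_simp at this
        first | exact this.symm | linear_combination -this | linear_combination this
      exact hn.1.2.2.1 (eq_inv_of_mul_eq_one_right hu1)
  have hperm : ∀ {u w t : K}, six u w t = six a b c → [u, w, t, u⁻¹, w⁻¹, t⁻¹].Nodup := fun {u w t} e => by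
    have h1 : (six a b c).Nodup := by simpa [six] using hd
    rw [← e] at h1
    simpa [six] using h1
  have hinvsix : ∀ {u w t : K}, six u⁻¹ w⁻¹ t⁻¹ = six u w t := fun {u w t} => by
    simp only [six, inv_inv, Multiset.insert_eq_cons, ← Multiset.singleton_add]; abel
  have mixed : ∀ {u w t : K}, six u w t = six a b c → a ^ q = u → b ^ q = w⁻¹ → u * w * t = 1 → False :=
    fun {u w t} e e1 e2 hp => hmixed e1 e2 (fun h => by simp [h] at hp) (fun h => by simp [h] at hp)
      ⟨t, hp, hperm e, mem_six.1 (e.symm ▸ hmc)⟩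
  have P2 : ∀ x : K, x ^ (q ^ 2) = (x ^ q) ^ q := fun x => by rw [sq, pow_mul]
  have Pp : ∀ x : K, x ^ (q ^ 2 + q + 1) = (x ^ q) ^ q * x ^ q * x := fun x => by
    rw [pow_succ, pow_add, P2]
  have Pm : ∀ x : K, x ≠ 0 → (x ^ q) ^ q * x = x ^ q → x ^ (q ^ 2 - q + 1) = 1 := fun x hx h => by
    have hle : q ≤ q ^ 2 := Nat.le_self_pow two_ne_zero q
    refine mul_left_cancel₀ (pow_ne_zero q hx) ?_
    rw [← pow_add, show q + (q ^ 2 - q + 1) = q ^ 2 + 1 by omega, pow_succ, P2, h, mul_one]
  have cq : ∀ {u w : K}, a ^ q = u → b ^ q = w → c ^ q = (u * w)⁻¹ := fun e1 e2 => by rw [hcq, e1, e2]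
  rcases mem_six.1 (mem_pow hinj hS (x := a) (mem_six.2 (Or.inl rfl))) with ea | ea | ea | ea | ea | ea <;>
    rcases mem_six.1 (mem_pow hinj hS (x := b) (mem_six.2 (Or.inr (Or.inl rfl)))) with eb | eb | eb | eb | eb | eb
  all_goals first
    | exact absurd (ea.trans eb.symm) hne.1
    | (refine absurd ?_ hne.2; rw [ea, eb, inv_inv]; done)
    | (refine absurd ?_ hne.2; rw [ea, eb]; done)
    | (refine Or.inl (fin ?_ ?_) <;> rw [P2] <;>
        simp only [ea, eb, inv_pow, inv_inv, cq ea eb, hcab, mul_inv, mul_pow] <;> field_simp; done)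
    | (refine Or.inr (Or.inl ⟨?_, ?_⟩) <;> rw [Pp] <;>
        simp only [ea, eb, inv_pow, inv_inv, cq ea eb, hcab, mul_inv, mul_pow] <;> field_simp; done)
    | (refine Or.inr (Or.inr ⟨Pm _ ha0 ?_, Pm _ hb0 ?_⟩) <;>
        simp only [ea, eb, inv_pow, inv_inv, cq ea eb, hcab, mul_inv, mul_pow] <;> field_simp; done)
    | exact (mixed (t := c) rfl ea eb habc).elim
    | exact (mixed (t := b) (six_swap₂₃ a b c) ea eb (by rw [mul_right_comm]; exact habc)).elim
    | exact (mixed (t := c) (six_swap₁₂ a b c) ea eb (by rw [mul_comm b a]; exact habc)).elim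
    | exact (mixed (t := a) (six_rot a b c) ea eb (by rw [mul_comm _ a, ← mul_assoc]; exact habc)).elim
    | exact (mixed (t := b) ((six_rot b c a).trans (six_rot a b c)) ea eb (by rw [mul_assoc, mul_comm]; exact habc)).elim
    | exact (mixed (t := a) ((six_swap₁₂ b c a).trans (six_rot a b c)) ea eb (by rw [mul_comm c b, mul_comm _ a, ← mul_assoc]; exact habc)).elim
    | (have hp' : a⁻¹ * b⁻¹ * c⁻¹ = 1 := by rw [← mul_inv, ← mul_inv, habc, inv_one]
       first
        | exact (mixed (t := c⁻¹) (hinvsix.trans rfl) ea (eb.trans (inv_inv _).symm) hp').elim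
        | exact (mixed (t := b⁻¹) (hinvsix.trans (six_swap₂₃ a b c)) ea (eb.trans (inv_inv _).symm) (by rw [mul_right_comm]; exact hp')).elim
        | exact (mixed (t := c⁻¹) (hinvsix.trans (six_swap₁₂ a b c)) ea (eb.trans (inv_inv _).symm) (by rw [mul_comm b⁻¹ a⁻¹]; exact hp')).elim
        | exact (mixed (t := a⁻¹) (hinvsix.trans (six_rot a b c)) ea (eb.trans (inv_inv _).symm) (by rw [mul_comm _ a⁻¹, ← mul_assoc]; exact hp')).elim
        | exact (mixed (t := b⁻¹) (hinvsix.trans ((six_rot b c a).trans (six_rot a b c))) ea (eb.trans (inv_inv _).symm) (by rw [mul_assoc, mul_comm]; exact hp')).elim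
        | exact (mixed (t := a⁻¹) (hinvsix.trans ((six_swap₁₂ b c a).trans (six_rot a b c))) ea (eb.trans (inv_inv _).symm) (by rw [mul_comm c⁻¹ b⁻¹, mul_comm _ a⁻¹, ← mul_assoc]; exact hp')).elim)

end Cfsg.Agent.Lib.G2Spectrum
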