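import Cfsg.Agent.Lib.G2Inv.Norm
import Cfsg.Agent.Lib.G2Inv.Classes
import Cfsg.Agent.Lib.ChevCent.Basic
import Cfsg.Agent.Lib.Chev.All

/-!
Change of field for the automorphism group of Zorn's algebra, and determinants of automorphisms.
-/

set_option autoImplicit false

namespace Cfsg.Agent.Lib.G2Spectrum

open Matrix Cfsg.Lie Cfsg.Agent.Lib.ZornG2 Cfsg.Agent.Lib.G2Inv

variable {F : Type*} [Field F] {K : Type*} [Field K]

/-- The structure matrices. -/
def lB (F : Type*) [Field F] (c : Fin 8) : Matrix (Fin 8) (Fin 8) F := sm F (leftS c)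

theorem leftF_single (c : Fin 8) : leftF (Pi.single c (1 : F)) = lB F c := by
  rw [leftF, Finset.sum_eq_single c (fun b _ hb => by rw [Pi.single_eq_of_ne hb, zero_smul])
    (fun h => absurd (Finset.mem_univ c) h), Pi.single_eq_same, one_smul, lB]

theorem lB_map (f : F →+* K) (c : Fin 8) : (lB F c).map f = lB K c := by
  ext i j
  simp only [lB, Matrix.map_apply, sm_apply, map_intCast]

theorem leftF_map (f : F →+* K) (x : Fin 8 → F) : (leftF x).map f = leftF (f ∘ x) := by
  ext i j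
  simp only [leftF, Matrix.map_apply, Matrix.sum_apply, Matrix.smul_apply, sm_apply, map_sum, smul_eq_mul,
    map_mul, map_intCast, Function.comp]

/-- Membership in the automorphism group as matrix identities. -/
theorem mem_G2_iff (g : GL (Fin 8) F) :
    g ∈ Cfsg.Lie.G2 F ↔ ∀ c, (g : Matrix (Fin 8) (Fin 8) F) * lB F c =
      leftF (fun i => (g : Matrix (Fin 8) (Fin 8) F) i c) * (g : Matrix (Fin 8) (Fin 8) F) := by
  set M : Matrix (Fin 8) (Fin 8) F := (g : Matrix (Fin 8) (Fin 8) F) with hM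
  have hcol : ∀ c, M *ᵥ Pi.single c (1 : F) = fun i => M i c := fun c => by
    rw [Matrix.mulVec_single_one]; rfl
  constructor
  · intro hg c
    refine Matrix.ext_of_mulVec_single fun j => ?_
    rw [← Matrix.mulVec_mulVec, ← Matrix.mulVec_mulVec, ← leftF_single, leftF_mulVec, leftF_mulVec, ← hcol]
    exact hg _ _
  · intro h x y
    show M *ᵥ zornMul x y = zornMul (M *ᵥ x) (M *ᵥ y)
    rw [← leftF_mulVec, ← leftF_mulVec, Matrix.mulVec_mulVec, Matrix.mulVec_mulVec]
    congr 1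
    rw [leftF, Finset.mul_sum]
    have e : ∀ c, M * (x c • sm F (leftS c)) = x c • (leftF (fun i => M i c) * M) := fun c => by
      rw [Matrix.mul_smul]; congr 1; exact h c
    simp only [e, leftF, Finset.sum_mul, Finset.smul_sum, Matrix.smul_mul, smul_smul]
    rw [Finset.sum_comm]
    refine Finset.sum_congr rfl fun i _ => ?_
    rw [← Finset.sum_smul]
    congr 1
    simp only [Matrix.mulVec, dotProduct]
    exact Finset.sum_congr rfl fun c _ => mul_comm _ _

theorem map_mem {f : F →+* K} {g : GL (Fin 8) F} (hg : g ∈ Cfsg.Lie.G2 F) :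
    Matrix.GeneralLinearGroup.map f g ∈ Cfsg.Lie.G2 K := by
  rw [mem_G2_iff] at hg ⊢
  intro c
  have h := congrArg (fun A : Matrix (Fin 8) (Fin 8) F => A.map f) (hg c)
  simp only [Matrix.map_mul, lB_map, leftF_map] at h
  exact h

/-- The change of field. -/
def g2Map (f : F →+* K) : ↥(Cfsg.Lie.G2 F) →* ↥(Cfsg.Lie.G2 K) :=
  ((Matrix.GeneralLinearGroup.map (n := Fin 8) f).comp (Cfsg.Lie.G2 F).subtype).codRestrict _ fun g => map_mem g.2

theorem coe_g2Map (f : F →+* K) (g : ↥(Cfsg.Lie.G2 F)) :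
    ((g2Map f g : GL (Fin 8) K) : Matrix (Fin 8) (Fin 8) K) = ((g : GL (Fin 8) F) : Matrix (Fin 8) (Fin 8) F).map f :=
  rfl

theorem g2Map_injective (f : F →+* K) : Function.Injective (g2Map f) := fun g h e => by
  refine Subtype.ext (Units.ext ?_)
  have := congrArg (fun x : ↥(Cfsg.Lie.G2 K) => ((x : GL (Fin 8) K) : Matrix (Fin 8) (Fin 8) K)) e
  simp only [coe_g2Map] at this
  exact Matrix.map_injective f.injective this

theorem act_g2Map (f : F →+* K) (g : ↥(Cfsg.Lie.G2 F)) (x : Fin 8 → F) :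
    act (g2Map f g) (f ∘ x) = f ∘ act g x := by
  funext i
  exact (RingHom.map_mulVec f _ x i).symm

/-- The determinant of an automorphism. -/
def detG (g : ↥(Cfsg.Lie.G2 F)) : F := ((g : GL (Fin 8) F) : Matrix (Fin 8) (Fin 8) F).det

theorem detG_g2Map (f : F →+* K) (g : ↥(Cfsg.Lie.G2 F)) : detG (g2Map f g) = f (detG g) :=
  (RingHom.map_det f _).symm

theorem xg_pow {D : ChevalleyDatum} {C : Chev.Cert} (h : Chev.Checked D C) (r : ℕ) (t : F) :
    ∀ k : ℕ, ChevCent.xg h r t ^ k = ChevCent.xg h r ((k : F) * t)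
  | 0 => by rw [pow_zero, Nat.cast_zero, zero_mul, ChevCent.xg_zero]
  | k + 1 => by rw [pow_succ, xg_pow h r t k, ← ChevCent.xg_add, Nat.cast_add, Nat.cast_one, add_mul, one_mul]

theorem detG_eq_one [Fintype F] (g : ↥(Cfsg.Lie.G2 F)) : detG g = 1 := by
  obtain ⟨p, hp⟩ := CharP.exists F
  haveI : Fact p.Prime := ⟨CharP.char_is_prime F p⟩
  obtain ⟨ψ⟩ := nonempty_iso (F := F)
  let d : ↥(chevG2.group F) →* Fˣ :=
    (Matrix.GeneralLinearGroup.det.comp (Cfsg.Lie.G2 F).subtype).comp ψ.toMonoidHom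
  suffices h : ∀ (x : GL chevG2.Idx F) (hx : x ∈ chevG2.group F), d ⟨x, hx⟩ = 1 by
    have e := h _ (ψ.symm g).2
    change Matrix.GeneralLinearGroup.det ((ψ (ψ.symm g) : ↥(Cfsg.Lie.G2 F)) : GL (Fin 8) F) = 1 at e
    rw [ψ.apply_symm_apply] at e
    rw [detG, ← Matrix.GeneralLinearGroup.val_det_apply, e, Units.val_one]
  intro x hx
  induction hx using Subgroup.closure_induction with
  | mem x hx =>
    obtain ⟨r, t, hr⟩ := id hx
    have hx' : x = ChevCent.xg Chev.checked_G2 r.val t := by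
      refine Units.ext ?_
      rw [ChevCent.coe_xg, hr]
      simp [ChevalleyDatum.x, r.2]
    have h1 : (⟨x, Subgroup.subset_closure hx⟩ : ↥(chevG2.group F)) ^ p = 1 := by
      have hxp : x ^ p = 1 := by
        rw [hx', xg_pow, CharP.cast_eq_zero, zero_mul, ChevCent.xg_zero]
      exact Subtype.ext (by rw [SubmonoidClass.coe_pow]; exact hxp)
    have h2 := congrArg d h1
    rw [map_pow, map_one] at h2
    refine Units.ext ?_
    have h3 : ((d ⟨x, Subgroup.subset_closure hx⟩ : Fˣ) : F) ^ p = 1 := by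
      rw [← Units.val_pow_eq_pow_val, h2, Units.val_one]
    refine sub_eq_zero.1 (eq_zero_of_pow_eq_zero (n := p) ?_)
    rw [sub_pow_char, h3, Units.val_one, one_pow, sub_self]
  | one => exact map_one d
  | mul x y hx hy hx' hy' =>
    show d (⟨x, hx⟩ * ⟨y, hy⟩) = 1
    rw [map_mul, hx', hy', one_mul]
  | inv x hx hx' =>
    show d (⟨x, hx⟩⁻¹) = 1
    rw [map_inv, hx', inv_one]

theorem eq_sl3Hom {g : ↥(Cfsg.Lie.G2 F)} (hg : act g (zE F) = zE F) :
    g = sl3Hom F (blockHom F ⟨g, hg⟩) := by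
  have h := blockHom_injective (F := F) (a₁ := ⟨g, hg⟩)
    (a₂ := ⟨sl3Hom F (blockHom F ⟨g, hg⟩), sl3Hom_mem_stabE _⟩) (blockHom_sl3Hom _).symm
  exact congrArg Subtype.val h

theorem sl3Hom_injective : Function.Injective (sl3Hom F) := fun M N e => by
  have h : (⟨sl3Hom F M, sl3Hom_mem_stabE M⟩ : ↥(stabE F)) = ⟨sl3Hom F N, sl3Hom_mem_stabE N⟩ := Subtype.ext e
  rw [← blockHom_sl3Hom M, h, blockHom_sl3Hom]

end Cfsg.Agent.Lib.G2Spectrum
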