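import Cfsg.Agent.Lib.G2Spectrum.Semisimple

/-!
Elements of `p`-power order commuting with a nontrivial diagonal element, in characteristic `p`.
-/

set_option autoImplicit false
set_option linter.unusedSimpArgs false
set_option linter.unusedSectionVars false

namespace Cfsg.Agent.Lib.G2Spectrum

open Matrix Polynomial Cfsg.Lie Cfsg.Agent.Lib.ZornG2 Cfsg.Agent.Lib.G2Inv

variable {K : Type*} [Field K]

theorem nilpotent_pow_card {ι : Type*} [Fintype ι] [DecidableEq ι] {A : Matrix ι ι K} (hA : IsNilpotent A) :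
    A ^ Fintype.card ι = 0 := by
  have h := (Matrix.isNilpotent_charpoly_sub_pow_of_isNilpotent hA).eq_zero
  have h2 := Matrix.aeval_self_charpoly A
  rw [sub_eq_zero.1 h, map_pow, aeval_X] at h2
  exact h2

theorem pow_eq_one_of_unip {ι : Type*} [Fintype ι] [DecidableEq ι] [Nonempty ι] {p : ℕ} [Fact p.Prime] [CharP K p]
    {A : Matrix ι ι K} {k m e : ℕ} (hA : A ^ p ^ k = 1) (hm : IsNilpotent (A - 1) → (A - 1) ^ m = 0)
    (he : m ≤ p ^ e) : A ^ p ^ e = 1 := by
  have hnil : IsNilpotent (A - 1) :=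
    ⟨p ^ k, by rw [sub_pow_char_pow_of_commute (p := p) _ (Commute.one_right A), hA, one_pow, sub_self]⟩
  have h0 : (A - 1) ^ p ^ e = 0 := pow_eq_zero_of_le he (hm hnil)
  rwa [sub_pow_char_pow_of_commute (p := p) _ (Commute.one_right A), one_pow, sub_eq_zero] at h0

theorem eq_one_of_pow_char_pow {p : ℕ} [Fact p.Prime] [CharP K p] {x : K} {k : ℕ} (h : x ^ p ^ k = 1) : x = 1 := by
  refine sub_eq_zero.1 (eq_zero_of_pow_eq_zero (n := p ^ k) ?_)
  rw [sub_pow_char_pow, h, one_pow, sub_self]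

theorem act_pow_matrix {g : ↥(Cfsg.Lie.G2 K)} {X Y : Fin 8 → K} {M : Matrix (Fin 2) (Fin 2) K}
    (hX : act g X = M 0 0 • X + M 1 0 • Y) (hY : act g Y = M 0 1 • X + M 1 1 • Y) : ∀ n : ℕ,
    act (g ^ n) X = (M ^ n) 0 0 • X + (M ^ n) 1 0 • Y ∧ act (g ^ n) Y = (M ^ n) 0 1 • X + (M ^ n) 1 1 • Y
  | 0 => by simp [act_one]
  | n + 1 => by
    obtain ⟨e1, e2⟩ := act_pow_matrix hX hY n
    rw [pow_succ' g, act_mul, act_mul, e1, e2, act_add, act_add, act_smul, act_smul, act_smul, act_smul, hX, hY,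
      pow_succ' M]
    simp only [Matrix.mul_apply, Fin.sum_univ_two]
    constructor <;> module

variable {p : ℕ} [Fact p.Prime] [CharP K p]

/-- A unipotent element on a plane. -/
theorem plane_fixed {u : ↥(Cfsg.Lie.G2 K)} {k : ℕ} (hu : u ^ p ^ k = 1) {X Y : Fin 8 → K}
    (hli : ∀ a b : K, a • X + b • Y = 0 → a = 0 ∧ b = 0)
    (hX : ∃ a b : K, act u X = a • X + b • Y) (hY : ∃ a b : K, act u Y = a • X + b • Y) :
    act (u ^ p) X = X ∧ act (u ^ p) Y = Y := by
  obtain ⟨a, c, e1⟩ := hX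
  obtain ⟨b, d, e2⟩ := hY
  have h := act_pow_matrix (M := !![a, b; c, d]) (g := u) (by simpa using e1) (by simpa using e2)
  set M : Matrix (Fin 2) (Fin 2) K := !![a, b; c, d]
  have h1 : M ^ p ^ k = 1 := by
    obtain ⟨k1, k2⟩ := h (p ^ k)
    rw [hu, act_one] at k1 k2
    have f1 := hli ((M ^ p ^ k) 0 0 - 1) ((M ^ p ^ k) 1 0)
      (by rw [sub_smul, one_smul, sub_add_eq_add_sub, ← k1, sub_self])
    have f2 := hli ((M ^ p ^ k) 0 1) ((M ^ p ^ k) 1 1 - 1)
      (by rw [sub_smul, one_smul, ← add_sub_assoc, ← k2, sub_self])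
    ext i j
    fin_cases i <;> fin_cases j
    · simpa [sub_eq_zero] using f1.1
    · simpa using f2.1
    · simpa using f1.2
    · simpa [sub_eq_zero] using f2.2
  have h2 : M ^ p ^ 1 = 1 := pow_eq_one_of_unip h1 nilpotent_pow_card (by
    rw [pow_one, Fintype.card_fin]; exact (Fact.out : p.Prime).two_le)
  rw [pow_one] at h2
  obtain ⟨k1, k2⟩ := h p
  rw [h2] at k1 k2
  exact ⟨by simpa using k1, by simpa using k2⟩

/-- The diagonal entries. -/
def dlt (d : Fin 3 → K) : Fin 8 → K := ![1, d 0, d 1, d 2, d 1 * d 2, d 0 * d 2, d 0 * d 1, 1]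

theorem act_dia (d : Fin 3 → K) (hd : d 0 * d 1 * d 2 = 1) (v : Fin 8 → K) (r : Fin 8) :
    act (sl3Hom K (dia d hd)) v r = dlt d r * v r := by
  rw [act, coe_dia_hom, Matrix.mulVec_diagonal]; rfl

theorem eigen_coord {d : Fin 3 → K} {hd : d 0 * d 1 * d 2 = 1} {v : Fin 8 → K} {x : K}
    (h : act (sl3Hom K (dia d hd)) v = x • v) (r : Fin 8) (hr : dlt d r ≠ x) : v r = 0 := by
  have e := congrFun h r
  rw [act_dia, Pi.smul_apply, smul_eq_mul] at e
  by_contra hv
  exact hr (mul_right_cancel₀ hv e)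

theorem commute_eigen {u s : ↥(Cfsg.Lie.G2 K)} (hc : Commute s u) {v : Fin 8 → K} {x : K}
    (h : act s v = x • v) : act s (act u v) = x • act u v := by
  rw [← act_mul, hc.eq, act_mul, h, act_smul]

theorem diag_entry {d : Fin 3 → K} {hd : d 0 * d 1 * d 2 = 1} {N : Matrix.SpecialLinearGroup (Fin 3) K}
    (hc : Commute (sl3Hom K (dia d hd)) (sl3Hom K N)) (i j : Fin 3) (hij : d i ≠ d j) : N.1 i j = 0 := by
  have e : dia d hd * N = N * dia d hd := sl3Hom_injective (by rw [map_mul, map_mul]; exact hc.eq)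
  have e2 : ((dia d hd).1 * N.1) i j = (N.1 * (dia d hd).1) i j := congrFun (congrFun (congrArg Subtype.val e) i) j
  simp only [dia, Matrix.diagonal_mul, Matrix.mul_diagonal] at e2
  by_contra h
  exact hij (mul_right_cancel₀ h (by rw [e2]; ring))

theorem diag_unip {d : Fin 3 → K} {hd : d 0 * d 1 * d 2 = 1} {N : Matrix.SpecialLinearGroup (Fin 3) K}
    (hc : Commute (sl3Hom K (dia d hd)) (sl3Hom K N)) (h01 : d 0 ≠ d 1) (h02 : d 0 ≠ d 2) (h12 : d 1 ≠ d 2)
    {k : ℕ} (hN : N ^ p ^ k = 1) : N = 1 := by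
  have z : N.1 = diagonal (fun i => N.1 i i) := by
    ext i j
    rcases eq_or_ne i j with rfl | hij
    · simp
    rw [Matrix.diagonal_apply_ne _ hij]
    refine diag_entry hc i j ?_
    fin_cases i <;> fin_cases j <;>
      (first | exact absurd rfl hij | exact h01 | exact h02 | exact h12 | exact Ne.symm h01 | exact Ne.symm h02 | exact Ne.symm h12)
  have e := congrArg Subtype.val hN
  rw [Matrix.SpecialLinearGroup.coe_pow, Matrix.SpecialLinearGroup.coe_one, z, Matrix.diagonal_pow] at e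
  refine Subtype.ext ?_
  rw [z, Matrix.SpecialLinearGroup.coe_one, ← Matrix.diagonal_one]
  congr 1
  funext i
  have e2 := congrFun (congrFun e i) i
  simp at e2
  exact eq_one_of_pow_char_pow e2

theorem fix_zE_of_no_one {d : Fin 3 → K} {hd : d 0 * d 1 * d 2 = 1} {u : ↥(Cfsg.Lie.G2 K)} {k : ℕ}
    (hu : u ^ p ^ k = 1) (hc : Commute (sl3Hom K (dia d hd)) u) (h1 : ∀ i, d i ≠ 1) :
    act u (zE K) = zE K := by
  set s := sl3Hom K (dia d hd)
  have hsE : act s (zE K) = (1 : K) • zE K := by rw [one_smul]; exact sl3Hom_mem_stabE _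
  have hprod : ∀ i j l : Fin 3, d i * d j * d l = 1 → d i * d j ≠ 1 := fun i j l e h => h1 l (by rwa [h, one_mul] at e)
  have hne : ∀ r : Fin 8, r ≠ 0 → r ≠ 7 → dlt d r ≠ 1 := by
    intro r r0 r7
    fin_cases r
    · exact absurd rfl r0
    · exact h1 0
    · exact h1 1
    · exact h1 2
    · exact hprod 1 2 0 (by rw [← hd]; ring)
    · exact hprod 0 2 1 (by rw [← hd]; ring)
    · exact hprod 0 1 2 hd
    · exact absurd rfl r7
  have hv := fun r r0 r7 => eigen_coord (commute_eigen hc hsE) r (hne r r0 r7)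
  set w := act u (zE K) with hw
  have hwI : w ∈ idem K := act_mem_idem u zE_mem
  obtain ⟨h7, hdot⟩ := (mem_idem_iff w).1 hwI
  have hA : zA K w = 0 := funext fun i => by
    fin_cases i
    exacts [hv 1 (by decide) (by decide), hv 2 (by decide) (by decide), hv 3 (by decide) (by decide)]
  have hB : zB K w = 0 := funext fun i => by
    fin_cases i
    exacts [hv 4 (by decide) (by decide), hv 5 (by decide) (by decide), hv 6 (by decide) (by decide)]
  have h0 : w 0 = 0 ∨ w 0 = 1 := by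
    have e : w 0 * (1 - w 0) = 0 := by
      rw [hA, hB] at hdot; simp [dot3] at hdot; linear_combination -hdot
    rcases mul_eq_zero.1 e with e | e
    · exact Or.inl e
    · exact Or.inr (sub_eq_zero.1 e).symm
  rcases h0 with h0 | h0
  swap
  · rw [hw.symm.trans rfl] at *
    rw [← mkZ_eta w, hA, hB, h7, h0, sub_self]; rfl
  exfalso
  have hswap : w = mkZ 0 0 0 1 := by rw [← mkZ_eta w, hA, hB, h7, h0, sub_zero]
  have he7 : act u (mkZ 0 0 0 1) = zE K := by
    have e : (mkZ 0 0 0 1 : Fin 8 → K) = zOne K - zE K := by funext i; fin_cases i <;> simp [mkZ, zOne, zE]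
    rw [e, act_sub, act_zOne, ← hw, hswap, e, sub_sub_cancel]
  rcases (Fact.out : p.Prime).eq_two_or_odd' with hp | hp
  · subst hp
    set v : Fin 8 → K := mkZ 0 (Pi.single 0 1) 0 0 with hvdef
    have hvs : act s v = d 0 • v := by
      funext r
      rw [act_dia, Pi.smul_apply, smul_eq_mul]
      fin_cases r <;> simp [v, mkZ, dlt]
    have hmul : zornMul (mkZ 0 0 0 1) (act u v) = act u v := by
      rw [← hswap, hw, ← act_zornMul]
      congr 1
      rw [hvdef, zornMul_zE_left]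
    have hform : ∀ x : Fin 8 → K, zornMul (mkZ 0 0 0 1) x = mkZ 0 0 (zB K x) (x 7) := fun x => by
      conv_lhs => rw [← mkZ_eta x, zornMul_mkZ]
      funext i; fin_cases i <;> simp [mkZ, dot3, cross3]
    rw [hform] at hmul
    have hz : ∀ r, dlt d r ≠ d 0 → act u v r = 0 := fun r hr => eigen_coord (commute_eigen hc hvs) r hr
    have h01 : d 0 * d 0 ≠ 1 := fun e => by
      rcases mul_self_eq_one_iff.1 e with e | e
      · exact h1 0 e
      · exact h1 0 (by rw [e, CharTwo.neg_eq])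
    have hzero : act u v = 0 := by
      funext r
      fin_cases r
      · rw [← hmul]; rfl
      · rw [← hmul]; rfl
      · rw [← hmul]; rfl
      · rw [← hmul]; rfl
      · refine hz 4 fun e => h01 ?_
        have e' : d 1 * d 2 = d 0 := e
        calc d 0 * d 0 = d 0 * (d 1 * d 2) := by rw [e']
          _ = 1 := by rw [← hd]; ring
      · refine hz 5 fun e => h1 2 (mul_left_cancel₀ (left_ne_zero_of_mul (left_ne_zero_of_mul_eq_one hd)) ?_)
        rw [mul_one]; exact e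
      · refine hz 6 fun e => h1 1 (mul_left_cancel₀ (left_ne_zero_of_mul (left_ne_zero_of_mul_eq_one hd)) ?_)
        rw [mul_one]; exact e
      · exact hz 7 (Ne.symm (h1 0))
    have := congrFun (act_injective u (hzero.trans (by rw [act, Matrix.mulVec_zero]))) 1
    simp [v, mkZ] at this
  · have hit : ∀ n : ℕ, act (u ^ (2 * n + 1)) (zE K) = mkZ 0 0 0 1 := by
      intro n
      induction n with
      | zero => rw [pow_one, ← hw, hswap]
      | succ n ih => rw [show 2 * (n + 1) + 1 = 1 + 1 + (2 * n + 1) by ring, pow_add, act_mul, ih, pow_add, pow_one,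
          act_mul, he7, ← hw, hswap]
    obtain ⟨n, hn⟩ := (hp.pow : Odd (p ^ k))
    have e := hit n
    rw [← hn, hu, act_one] at e
    simpa [zE, mkZ] using congrFun e 0

theorem block_sq_zero {x y z w : K} (h : IsNilpotent !![x, y; z, w]) :
    !![x, y; z, w] * !![x, y; z, w] = 0 := by
  have := nilpotent_pow_card h
  rwa [Fintype.card_fin, pow_two] at this

theorem pair_unip {d : Fin 3 → K} {hd : d 0 * d 1 * d 2 = 1} {N : Matrix.SpecialLinearGroup (Fin 3) K}
    (hc : Commute (sl3Hom K (dia d hd)) (sl3Hom K N)) (h02 : d 0 ≠ d 2) (h12 : d 1 ≠ d 2)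
    {k : ℕ} (hN : N ^ p ^ k = 1) : N ^ p = 1 := by
  have z02 := diag_entry hc 0 2 h02
  have z12 := diag_entry hc 1 2 h12
  have z20 := diag_entry hc 2 0 (Ne.symm h02)
  have z21 := diag_entry hc 2 1 (Ne.symm h12)
  have e : N.1 ^ p ^ k = 1 := by
    have := congrArg Subtype.val hN
    simpa using this
  refine Subtype.ext ?_
  rw [Matrix.SpecialLinearGroup.coe_pow, Matrix.SpecialLinearGroup.coe_one, ← pow_one p]
  refine pow_eq_one_of_unip e (m := 2) (fun hnil => ?_) (by rw [pow_one]; exact (Fact.out : p.Prime).two_le)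
  have h3 := nilpotent_pow_card hnil
  rw [Fintype.card_fin] at h3
  set a := N.1 0 0 - 1; set b := N.1 0 1; set c := N.1 1 0; set f := N.1 1 1 - 1; set g := N.1 2 2 - 1
  have hM : N.1 - 1 = !![a, b, 0; c, f, 0; 0, 0, g] := by
    ext i j
    fin_cases i <;> fin_cases j <;> simp [a, b, c, f, g, z02, z12, z20, z21]
  rw [hM] at h3 ⊢
  have e00 := congrFun (congrFun h3 0) 0; have e01 := congrFun (congrFun h3 0) 1
  have e10 := congrFun (congrFun h3 1) 0; have e11 := congrFun (congrFun h3 1) 1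
  have e22 := congrFun (congrFun h3 2) 2
  simp [pow_succ, Matrix.mul_apply, Fin.sum_univ_three] at e00 e01 e10 e11 e22
  have hg : g = 0 := e22
  have hB : IsNilpotent !![a, b; c, f] := ⟨3, by
    ext i j
    fin_cases i <;> fin_cases j <;> simp [pow_succ, Matrix.mul_apply, Fin.sum_univ_two] <;> assumption⟩
  have h2 := block_sq_zero hB
  have f00 := congrFun (congrFun h2 0) 0; have f01 := congrFun (congrFun h2 0) 1
  have f10 := congrFun (congrFun h2 1) 0; have f11 := congrFun (congrFun h2 1) 1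
  simp [Matrix.mul_apply, Fin.sum_univ_two] at f00 f01 f10 f11
  ext i j
  fin_cases i <;> fin_cases j <;>
    simp [pow_two, Matrix.mul_apply, Fin.sum_univ_three, hg] <;> assumption

theorem plane_case {d : Fin 3 → K} {hd : d 0 * d 1 * d 2 = 1} {u : ↥(Cfsg.Lie.G2 K)} {k : ℕ}
    (hu : u ^ p ^ k = 1) (hc : Commute (sl3Hom K (dia d hd)) u) (h2 : d 2 = 1) (hx : d 0 * d 0 ≠ 1) :
    u ^ p = 1 := by
  set s := sl3Hom K (dia d hd)
  have hd1 : d 1 = (d 0)⁻¹ := eq_inv_of_mul_eq_one_right (by rwa [h2, mul_one] at hd)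
  have h00 : d 0 ≠ 0 := left_ne_zero_of_mul (left_ne_zero_of_mul_eq_one hd)
  have n1 : d 0 ≠ 1 := fun e => hx (by rw [e, mul_one])
  have n2 : d 0 ≠ (d 0)⁻¹ := fun e => hx (by nth_rewrite 2 [e]; exact mul_inv_cancel₀ h00)
  have n3 : (d 0)⁻¹ ≠ 1 := fun e => n1 (inv_eq_one.1 e)
  have hdl : dlt d = ![1, d 0, (d 0)⁻¹, 1, (d 0)⁻¹, d 0, 1, 1] := by
    funext r; fin_cases r <;> simp [dlt, hd1, h2, h00]
  have plane : ∀ (x : K) (X Y : Fin 8) (hX : dlt d X = x) (hY : dlt d Y = x) (hXY : X ≠ Y),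
      (∀ r, r ≠ X → r ≠ Y → dlt d r ≠ x) →
      act (u ^ p) (Pi.single X 1) = Pi.single X 1 ∧ act (u ^ p) (Pi.single Y 1) = Pi.single Y 1 := by
    intro x X Y hX hY hXY hr
    have hs : ∀ Z : Fin 8, dlt d Z = x → act s (Pi.single Z 1) = x • (Pi.single Z 1 : Fin 8 → K) := fun Z hZ => by
      funext r
      rw [act_dia, Pi.smul_apply, smul_eq_mul]
      rcases eq_or_ne r Z with rfl | h
      · rw [hZ]
      · rw [Pi.single_eq_of_ne h, mul_zero, mul_zero]
    have hdec : ∀ Z : Fin 8, dlt d Z = x → ∃ a b : K, act u (Pi.single Z 1) =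
        a • (Pi.single X 1 : Fin 8 → K) + b • (Pi.single Y 1 : Fin 8 → K) := fun Z hZ => by
      refine ⟨act u (Pi.single Z 1) X, act u (Pi.single Z 1) Y, funext fun r => ?_⟩
      rcases eq_or_ne r X with rfl | hrX
      · simp [hXY]
      rcases eq_or_ne r Y with rfl | hrY
      · simp [hXY.symm]
      simp [hrX, hrY, eigen_coord (commute_eigen hc (hs Z hZ)) r (hr r hrX hrY)]
    refine plane_fixed hu (fun a b e => ⟨?_, ?_⟩) (hdec X hX) (hdec Y hY)
    · simpa [hXY] using congrFun e X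
    · simpa [hXY.symm] using congrFun e Y
  obtain ⟨hA, -⟩ := plane (d 0) 1 5 (by rw [hdl]; rfl) (by rw [hdl]; rfl) (by decide) (by
    intro r r1 r5; rw [hdl]; fin_cases r <;>
      first | exact absurd rfl r1 | exact absurd rfl r5 | exact Ne.symm n1 | exact Ne.symm n2)
  obtain ⟨-, hB⟩ := plane (d 0)⁻¹ 2 4 (by rw [hdl]; rfl) (by rw [hdl]; rfl) (by decide) (by
    intro r r2 r4; rw [hdl]; fin_cases r <;>
      first | exact absurd rfl r2 | exact absurd rfl r4 | exact Ne.symm n3 | exact n2)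
  have hE : act (u ^ p) (zE K) = zE K := by
    have e : zornMul (Pi.single 1 1) (Pi.single 4 1) = zE K := by
      funext i; fin_cases i <;> simp [zornMul, zE, mkZ, zA, zB, dot3, cross3, Pi.single_apply]
    rw [← e, act_zornMul, hA, hB]
  have hN := eq_sl3Hom hE
  set N := blockHom K ⟨u ^ p, hE⟩
  have hcN : Commute s (sl3Hom K N) := hN ▸ hc.pow_right p
  have hNp : N ^ p ^ k = 1 := sl3Hom_injective (by rw [map_pow, map_one, ← hN, pow_right_comm, hu, one_pow])
  rw [hN, diag_unip hcN (by rw [hd1]; exact n2) (by rw [h2]; exact n1) (by rw [hd1, h2]; exact n3) hNp, map_one]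

/-- The cyclic shift. -/
def cyc (K : Type*) [Field K] : Matrix.SpecialLinearGroup (Fin 3) K :=
  ⟨!![0, 1, 0; 0, 0, 1; 1, 0, 0], by simp [Matrix.det_fin_three]⟩

theorem rot_prod {d : Fin 3 → K} (hd : d 0 * d 1 * d 2 = 1) :
    ![d 1, d 2, d 0] 0 * ![d 1, d 2, d 0] 1 * ![d 1, d 2, d 0] 2 = 1 := by
  simp; rw [← hd]; ring

theorem cyc_conj (d : Fin 3 → K) (hd : d 0 * d 1 * d 2 = 1) :
    sl3Hom K (cyc K) * sl3Hom K (dia d hd) * (sl3Hom K (cyc K))⁻¹ = sl3Hom K (dia ![d 1, d 2, d 0] (rot_prod hd)) := by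
  rw [mul_inv_eq_iff_eq_mul, ← map_mul, ← map_mul]
  congr 1
  refine Subtype.ext ?_
  show (cyc K).1 * (dia d hd).1 = (dia ![d 1, d 2, d 0] (rot_prod hd)).1 * (cyc K).1
  ext i j
  fin_cases i <;> fin_cases j <;> simp [cyc, dia, Matrix.mul_apply, Fin.sum_univ_three, Matrix.diagonal]

/-- The conclusion for an element of order prime to `p` times a commuting `p`-element. -/
def Outcome (p q : ℕ) (a b : K) (u : ↥(Cfsg.Lie.G2 K)) : Prop :=
  (u ^ p = 1 ∧ ((a ^ (q - 1) = 1 ∧ b ^ (q - 1) = 1) ∨ (a ^ (q + 1) = 1 ∧ b ^ (q + 1) = 1))) ∨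
    (a ^ 3 = 1 ∧ b ^ 3 = 1 ∧ ∀ e, 3 ≤ p ^ e → u ^ p ^ e = 1) ∨ (a * a = 1 ∧ b * b = 1)

theorem outcome_rot {q : ℕ} {a b c : K} (habc : a * b * c = 1) {u u' : ↥(Cfsg.Lie.G2 K)}
    (hu : ∀ n : ℕ, u' ^ n = 1 → u ^ n = 1) (h : Outcome p q b c u') : Outcome p q a b u := by
  have e : a = (b * c)⁻¹ := eq_inv_of_mul_eq_one_left (by rw [← mul_assoc]; exact habc)
  rcases h with ⟨h1, ⟨h2, h3⟩ | ⟨h2, h3⟩⟩ | ⟨h1, h2, h3⟩ | ⟨h1, h2⟩
  · exact Or.inl ⟨hu _ h1, Or.inl ⟨by rw [e, inv_pow, mul_pow, h2, h3, one_mul, inv_one], h2⟩⟩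
  · exact Or.inl ⟨hu _ h1, Or.inr ⟨by rw [e, inv_pow, mul_pow, h2, h3, one_mul, inv_one], h2⟩⟩
  · exact Or.inr (Or.inl ⟨by rw [e, inv_pow, mul_pow, h1, h2, one_mul, inv_one], h1, fun n hn => hu _ (h3 n hn)⟩)
  · exact Or.inr (Or.inr ⟨by rw [e, ← mul_inv, mul_mul_mul_comm, h1, h2, one_mul, inv_one], h1⟩)

variable {q : ℕ} (hinj : Function.Injective fun x : K => x ^ q)
include hinj

theorem one_case {d : Fin 3 → K} {hd : d 0 * d 1 * d 2 = 1} {u : ↥(Cfsg.Lie.G2 K)} {k : ℕ}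
    (hS : (six (d 0) (d 1) (d 2)).map (· ^ q) = six (d 0) (d 1) (d 2))
    (hu : u ^ p ^ k = 1) (hc : Commute (sl3Hom K (dia d hd)) u) (h2 : d 2 = 1) :
    Outcome p q (d 0) (d 1) u := by
  have hd1 : d 1 = (d 0)⁻¹ := eq_inv_of_mul_eq_one_right (by rwa [h2, mul_one] at hd)
  have h00 : d 0 ≠ 0 := left_ne_zero_of_mul (left_ne_zero_of_mul_eq_one hd)
  by_cases hx : d 0 * d 0 = 1
  · exact Or.inr (Or.inr ⟨hx, by rw [hd1, ← mul_inv, hx, inv_one]⟩)
  refine Or.inl ⟨plane_case hu hc h2 hx, ?_⟩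
  have hq1 : 1 ≤ q := Nat.one_le_iff_ne_zero.2 fun h => by
    subst h; exact zero_ne_one (hinj (show (0 : K) ^ 0 = 1 ^ 0 by simp))
  have hq : d 0 ^ q = d 0 ∨ d 0 ^ q = (d 0)⁻¹ := by
    have hm := mem_pow hinj hS (x := d 0) (mem_six.2 (Or.inl rfl))
    rw [mem_six, hd1, h2, inv_inv, inv_one] at hm
    have hne : d 0 ^ q ≠ 1 := fun e => hx (by
      have : d 0 = 1 := hinj (show d 0 ^ q = 1 ^ q by rw [e, one_pow])
      rw [this, mul_one])
    tauto
  rcases hq with h | h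
  · have e : d 0 ^ (q - 1) = 1 := mul_right_cancel₀ h00 (by rw [← pow_succ, Nat.sub_add_cancel hq1, h, one_mul])
    exact Or.inl ⟨e, by rw [hd1, inv_pow, e, inv_one]⟩
  · have e : d 0 ^ (q + 1) = 1 := by rw [pow_succ, h, inv_mul_cancel₀ h00]
    exact Or.inr ⟨e, by rw [hd1, inv_pow, e, inv_one]⟩

theorem repeat_case {d : Fin 3 → K} {hd : d 0 * d 1 * d 2 = 1} {u : ↥(Cfsg.Lie.G2 K)} {k : ℕ}
    (hS : (six (d 0) (d 1) (d 2)).map (· ^ q) = six (d 0) (d 1) (d 2))
    (hu : u ^ p ^ k = 1) (hc : Commute (sl3Hom K (dia d hd)) u) (h1 : ∀ i, d i ≠ 1) (h01 : d 0 = d 1) :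
    Outcome p q (d 0) (d 1) u := by
  have hE := fix_zE_of_no_one hu hc h1
  have hN := eq_sl3Hom hE
  set N := blockHom K ⟨u, hE⟩
  have hcN : Commute (sl3Hom K (dia d hd)) (sl3Hom K N) := hN ▸ hc
  have hNp : N ^ p ^ k = 1 := sl3Hom_injective (by rw [map_pow, map_one, ← hN, hu])
  by_cases h02 : d 0 = d 2
  · refine Or.inr (Or.inl ⟨?_, ?_, fun e he => ?_⟩)
    · calc d 0 ^ 3 = d 0 * d 0 * d 0 := by ring
        _ = d 0 * d 1 * d 2 := by rw [← h01, ← h02]
        _ = 1 := hd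
    · calc d 1 ^ 3 = d 1 * d 1 * d 1 := by ring
        _ = d 0 * d 1 * d 2 := by rw [← h01, ← h02]
        _ = 1 := hd
    · rw [hN, ← map_pow]
      have e1 : N.1 ^ p ^ k = 1 := by simpa using congrArg Subtype.val hNp
      have e2 := pow_eq_one_of_unip e1 nilpotent_pow_card (e := e) (by rw [Fintype.card_fin]; exact he)
      rw [show N ^ p ^ e = 1 from Subtype.ext (by simpa using e2), map_one]
  have hup : u ^ p = 1 := by
    rw [hN, ← map_pow, pair_unip hcN h02 (h01 ▸ h02) hNp, map_one]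
  have h00 : d 0 ≠ 0 := left_ne_zero_of_mul (left_ne_zero_of_mul_eq_one hd)
  have hq1 : 1 ≤ q := Nat.one_le_iff_ne_zero.2 fun h => by
    subst h; exact zero_ne_one (hinj (show (0 : K) ^ 0 = 1 ^ 0 by simp))
  refine Or.inl ⟨hup, ?_⟩
  rw [← h01, and_self_iff, and_self_iff]
  have hm1 : ∀ {x : K}, x ^ q = x → x ≠ 0 → x ^ (q - 1) = 1 := fun {x} h h0 =>
    mul_right_cancel₀ h0 (by rw [← pow_succ, Nat.sub_add_cancel hq1, h, one_mul])
  rcases pow_eq_of_repeat hinj hS hd h01 with h | h | h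
  · exact Or.inl (hm1 h h00)
  · exact Or.inr (by rw [pow_succ, h, inv_mul_cancel₀ h00])
  · have hsq : d 0 * d 0 = -1 := (mul_self_eq_one_iff.1 h).resolve_left fun e =>
      h1 2 (by rw [← h01, e, one_mul] at hd; exact hd)
    rcases Nat.even_or_odd' q with ⟨j, hj | hj⟩
    · exfalso
      subst hj
      have e1 : (d 0 * d 0) ^ (2 * j) = 1 := by rw [hsq]; exact (even_two_mul j).neg_one_pow
      have e2 : d 0 * d 0 = 1 := hinj (e1.trans (one_pow _).symm)
      exact h1 2 (by rw [← h01, e2, one_mul] at hd; exact hd)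
    · have hpw : d 0 ^ q = (-1) ^ j * d 0 := by rw [hj, pow_succ, pow_mul, sq, hsq]
      rcases Nat.even_or_odd j with hev | hod
      · exact Or.inl (hm1 (by rw [hpw, hev.neg_one_pow, one_mul]) h00)
      · refine Or.inr ?_
        rw [pow_succ, hpw, hod.neg_one_pow, mul_assoc, hsq]; ring

/-- The main statement. -/
theorem outcome {d : Fin 3 → K} {hd : d 0 * d 1 * d 2 = 1} {u : ↥(Cfsg.Lie.G2 K)} {k : ℕ}
    (hS : (six (d 0) (d 1) (d 2)).map (· ^ q) = six (d 0) (d 1) (d 2))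
    (hu : u ^ p ^ k = 1) (hc : Commute (sl3Hom K (dia d hd)) u) (hu1 : u ≠ 1) :
    Outcome p q (d 0) (d 1) u := by
  set d' : Fin 3 → K := ![d 1, d 2, d 0] with hd'
  set d'' : Fin 3 → K := ![d 2, d 0, d 1] with hd''
  set C := sl3Hom K (cyc K)
  have hc' : Commute (sl3Hom K (dia d' (rot_prod hd))) (C * u * C⁻¹) := by
    rw [← cyc_conj d hd]; exact hc.conj C
  have hu' : (C * u * C⁻¹) ^ p ^ k = 1 := by rw [conj_pow, hu, mul_one, mul_inv_cancel]
  have hS' : (six (d' 0) (d' 1) (d' 2)).map (· ^ q) = six (d' 0) (d' 1) (d' 2) := by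
    show (six (d 1) (d 2) (d 0)).map _ = six (d 1) (d 2) (d 0)
    rw [six_rot]; exact hS
  have hS'' : (six (d'' 0) (d'' 1) (d'' 2)).map (· ^ q) = six (d'' 0) (d'' 1) (d'' 2) := by
    show (six (d 2) (d 0) (d 1)).map _ = six (d 2) (d 0) (d 1)
    rw [← six_rot]; exact hS
  have hc'' : Commute (sl3Hom K (dia d'' (rot_prod (rot_prod hd)))) (C * (C * u * C⁻¹) * C⁻¹) := by
    have e := cyc_conj d' (rot_prod hd)
    have e2 := hc'.conj C
    rw [e] at e2
    exact e2
  have hu'' : (C * (C * u * C⁻¹) * C⁻¹) ^ p ^ k = 1 := by rw [conj_pow, hu', mul_one, mul_inv_cancel]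
  have back : ∀ (v : ↥(Cfsg.Lie.G2 K)) (n : ℕ), (C * v * C⁻¹) ^ n = 1 → v ^ n = 1 := fun v n e => by
    rw [conj_pow] at e
    exact mul_left_cancel (a := C) (by rw [mul_one]; exact mul_inv_eq_one.1 e)
  have lift1 : Outcome p q (d' 0) (d' 1) (C * u * C⁻¹) → Outcome p q (d 0) (d 1) u :=
    fun h => outcome_rot hd (back u) h
  have lift2 : Outcome p q (d'' 0) (d'' 1) (C * (C * u * C⁻¹) * C⁻¹) → Outcome p q (d 0) (d 1) u :=
    fun h => lift1 (outcome_rot (rot_prod hd) (back _) h)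
  by_cases h1 : ∃ i, d i = 1
  · obtain ⟨i, hi⟩ := h1
    fin_cases i
    · exact lift1 (one_case (d := d') (hd := rot_prod hd) hinj hS' hu' hc' hi)
    · exact lift2 (one_case (d := d'') (hd := rot_prod (rot_prod hd)) hinj hS'' hu'' hc'' hi)
    · exact one_case hinj hS hu hc hi
  push Not at h1
  have h1' : ∀ i, d' i ≠ 1 := fun i => by fin_cases i <;> exact h1 _
  have h1'' : ∀ i, d'' i ≠ 1 := fun i => by fin_cases i <;> exact h1 _
  by_cases h01 : d 0 = d 1
  · exact repeat_case hinj hS hu hc h1 h01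
  by_cases h12 : d 1 = d 2
  · exact lift1 (repeat_case (d := d') (hd := rot_prod hd) hinj hS' hu' hc' h1' h12)
  by_cases h20 : d 2 = d 0
  · exact lift2 (repeat_case (d := d'') (hd := rot_prod (rot_prod hd)) hinj hS'' hu'' hc'' h1'' h20)
  exfalso
  have hE := fix_zE_of_no_one hu hc h1
  have hN := eq_sl3Hom hE
  have hcN : Commute (sl3Hom K (dia d hd)) (sl3Hom K (blockHom K ⟨u, hE⟩)) := hN ▸ hc
  refine hu1 ?_
  rw [hN, diag_unip hcN h01 (Ne.symm h20) h12 (k := k) (sl3Hom_injective (by rw [map_pow, map_one, ← hN, hu])), map_one]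

end Cfsg.Agent.Lib.G2Spectrum
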