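import Cfsg.Agent.Lib.G2Spectrum.Base
import Cfsg.Agent.Lib.G2Inv.Centralizer
import Cfsg.Agent.Lib.ElementOrders.Singer
import Cfsg.Agent.Lib.ElementOrders.UnitaryTorus
import Cfsg.Agent.Lib.ElementOrders.HalfTorus

/-!
Elements of the orders of the maximal tori, and of orders `p (q ± 1)`, in the automorphism group of Zorn's
algebra over a finite field.
-/

set_option autoImplicit false
set_option linter.style.haveILetI false
set_option linter.unusedSimpArgs false
set_option linter.unusedSectionVars false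

namespace Cfsg.Agent.Lib.G2Spectrum

open Matrix Cfsg.Lie Cfsg.Agent.Lib.ZornG2 Cfsg.Agent.Lib.G2Inv

variable {F : Type*} [Field F]

/-- A block and its inverse determinant. -/
def blockMat (A : Matrix (Fin 2) (Fin 2) F) : Matrix (Fin 3) (Fin 3) F :=
  !![A 0 0, A 0 1, 0; A 1 0, A 1 1, 0; 0, 0, A.det⁻¹]

/-- The block embedding. -/
def blockSL (F : Type*) [Field F] : GL (Fin 2) F →* SpecialLinearGroup (Fin 3) F where
  toFun A := ⟨blockMat A.1, by
    have h : A.1.det ≠ 0 := (A.isUnit.map Matrix.detMonoidHom).ne_zero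
    rw [blockMat, Matrix.det_fin_three]
    simp
    rw [Matrix.det_fin_two] at h ⊢
    field_simp⟩
  map_one' := Subtype.ext (by
    show blockMat 1 = 1
    ext i j; fin_cases i <;> fin_cases j <;> simp [blockMat])
  map_mul' A B := Subtype.ext (by
    show blockMat (A.1 * B.1) = blockMat A.1 * blockMat B.1
    ext i j; fin_cases i <;> fin_cases j <;>
      simp [blockMat, Matrix.mul_apply, Fin.sum_univ_two, Fin.sum_univ_three, mul_comm])

theorem blockSL_injective : Function.Injective (blockSL F) := fun A B h => by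
  have h' : blockMat A.1 = blockMat B.1 := congrArg Subtype.val h
  refine Units.ext (Matrix.ext fun i j => ?_)
  have e := congrFun (congrFun h' i.castSucc) j.castSucc
  fin_cases i <;> fin_cases j <;> simpa [blockMat] using e

variable [Fintype F]

theorem exists_order_sq_sub_one : ∃ g : ↥(Cfsg.Lie.G2 F), orderOf g = Fintype.card F ^ 2 - 1 := by
  obtain ⟨A, hA⟩ := ElementOrders.exists_orderOf_eq_pow_card_sub_one (F := F) (n := 2) (d := 2) one_le_two le_rfl
  exact ⟨sl3Hom F (blockSL F A), by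
    rw [orderOf_injective _ sl3Hom_injective, orderOf_injective _ blockSL_injective, hA]⟩

theorem exists_order_plus : ∃ g : ↥(Cfsg.Lie.G2 F), orderOf g = Fintype.card F ^ 2 + Fintype.card F + 1 := by
  obtain ⟨A, hA⟩ := ElementOrders.exists_orderOf_eq_pow_card_sub_one (F := F) (n := 3) (d := 3) (by norm_num) le_rfl
  set q := Fintype.card F with hq
  have h1 : 1 < q := Fintype.one_lt_card
  have hdet : ((A ^ (q - 1) : GL (Fin 3) F) : Matrix (Fin 3) (Fin 3) F).det = 1 := by
    rw [Units.val_pow_eq_pow_val, Matrix.det_pow]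
    exact FiniteField.pow_card_sub_one_eq_one _ (A.isUnit.map Matrix.detMonoidHom).ne_zero
  let M : SpecialLinearGroup (Fin 3) F := ⟨_, hdet⟩
  refine ⟨sl3Hom F M, ?_⟩
  rw [orderOf_injective _ sl3Hom_injective,
    ← orderOf_injective SpecialLinearGroup.toGL SpecialLinearGroup.toGL_injective,
    show SpecialLinearGroup.toGL M = A ^ (q - 1) from Units.ext rfl,
    orderOf_pow' _ (by omega), hA]
  obtain ⟨r, hr⟩ : ∃ r, q = r + 1 := ⟨q - 1, by omega⟩
  have e : q ^ 3 - 1 = (q ^ 2 + q + 1) * (q - 1) := by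
    rw [hr, Nat.add_sub_cancel]
    have : (r + 1) ^ 3 = ((r + 1) ^ 2 + (r + 1) + 1) * r + 1 := by ring
    omega
  rw [e, Nat.gcd_mul_left_left, Nat.mul_div_cancel _ (by omega)]

variable {p : ℕ} [Fact p.Prime] [CharP F p]

theorem exists_order_p_mul {k : SpecialLinearGroup (Fin 2) F} (hk : ¬p ∣ orderOf k) :
    ∃ g : ↥(Cfsg.Lie.G2 F), orderOf g = p * orderOf k := by
  let T : SpecialLinearGroup (Fin 2) F := ⟨!![1, 1; 0, 1], by simp [Matrix.det_fin_two]⟩
  have hTn : ∀ n : ℕ, (T ^ n).1 = !![1, (n : F); 0, 1] := by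
    intro n
    induction n with
    | zero => ext i j; fin_cases i <;> fin_cases j <;> simp
    | succ n ih =>
      show (T ^ (n + 1)).1 = _
      rw [pow_succ, Matrix.SpecialLinearGroup.coe_mul, ih]
      ext i j; fin_cases i <;> fin_cases j <;> simp [T, Matrix.mul_apply, Fin.sum_univ_two, add_comm]
  have hT : orderOf T = p := orderOf_eq_prime (Subtype.ext (by
      rw [hTn, CharP.cast_eq_zero]; ext i j; fin_cases i <;> fin_cases j <;> simp))
    (fun h => by
      have := congrFun (congrFun (congrArg Subtype.val h) 0) 1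
      simp [T] at this)
  refine ⟨slHom F (T, k), ?_⟩
  have e : orderOf (T, k) = p * orderOf k := by
    rw [Prod.orderOf_mk, hT]; exact Nat.Coprime.lcm_eq_mul ((Nat.Prime.coprime_iff_not_dvd Fact.out).2 hk)
  rw [← e]
  refine orderOf_eq_orderOf_iff.2 fun n => ?_
  rw [← map_pow]
  refine ⟨fun h => ?_, fun h => by rw [h, map_one]⟩
  rcases slHom_ker_cases h with h' | h'
  · exact h'
  · have e1 : (T ^ n).1 = ((-1 : SpecialLinearGroup (Fin 2) F) : Matrix (Fin 2) (Fin 2) F) :=
      congrArg Subtype.val (congrArg Prod.fst h')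
    rw [hTn, Matrix.SpecialLinearGroup.coe_neg, Matrix.SpecialLinearGroup.coe_one] at e1
    have e2 : (1 : F) = -1 := by simpa using congrFun (congrFun e1 0) 0
    have e3 : (-1 : SpecialLinearGroup (Fin 2) F) = 1 := Subtype.ext (by
      rw [Matrix.SpecialLinearGroup.coe_neg, Matrix.SpecialLinearGroup.coe_one]
      ext i j; fin_cases i <;> fin_cases j <;> simp [← e2])
    rw [h', e3]; rfl

theorem not_dvd_of_sub_one : ¬p ∣ Fintype.card F - 1 ∧ ¬p ∣ Fintype.card F + 1 := by
  obtain ⟨r, hp, hr⟩ := FiniteField.card F p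
  have hd : p ∣ Fintype.card F := hr ▸ dvd_pow_self p r.pos.ne'
  have h1 : 0 < Fintype.card F := Fintype.card_pos
  refine ⟨fun h => hp.one_lt.ne' (Nat.dvd_one.1 ?_), fun h => hp.one_lt.ne' (Nat.dvd_one.1 ?_)⟩
  · have := Nat.dvd_sub hd h
    rwa [show Fintype.card F - (Fintype.card F - 1) = 1 by omega] at this
  · have := Nat.dvd_sub h hd
    rwa [show Fintype.card F + 1 - Fintype.card F = 1 by omega] at this

theorem exists_order_p_minus : ∃ g : ↥(Cfsg.Lie.G2 F), orderOf g = p * (Fintype.card F - 1) := by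
  obtain ⟨x, hx⟩ := isCyclic_iff_exists_orderOf_eq_natCard.1 (inferInstance : IsCyclic Fˣ)
  rw [Nat.card_units, Nat.card_eq_fintype_card] at hx
  let φ : Fˣ →* SpecialLinearGroup (Fin 2) F :=
    { toFun := fun u => ⟨!![(u : F), 0; 0, (↑u⁻¹ : F)], by simp [Matrix.det_fin_two]⟩
      map_one' := Subtype.ext (by ext i j; fin_cases i <;> fin_cases j <;> simp)
      map_mul' := fun u v => Subtype.ext (by
        show (!![((u * v : Fˣ) : F), 0; 0, (↑(u * v)⁻¹ : F)]) = !![(u : F), 0; 0, (↑u⁻¹ : F)] * !![(v : F), 0; 0, (↑v⁻¹ : F)]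
        ext i j; fin_cases i <;> fin_cases j <;> simp [Matrix.mul_apply, Fin.sum_univ_two, mul_comm]) }
  have hφ : Function.Injective φ := fun u v h => Units.ext (by
    have e : (!![(u : F), 0; 0, (↑u⁻¹ : F)]) 0 0 = (!![(v : F), 0; 0, (↑v⁻¹ : F)]) 0 0 :=
      congrFun (congrFun (congrArg Subtype.val h) 0) 0
    simpa using e)
  obtain ⟨g, hg⟩ := exists_order_p_mul (p := p) (k := φ x) (by
    rw [orderOf_injective _ hφ, hx]; exact not_dvd_of_sub_one.1)
  exact ⟨g, by rw [hg, orderOf_injective _ hφ, hx]⟩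

theorem exists_order_p_plus : ∃ g : ↥(Cfsg.Lie.G2 F), orderOf g = p * (Fintype.card F + 1) := by
  obtain ⟨A, hA⟩ := ElementOrders.exists_orderOf_eq_pow_card_sub_one (F := F) (n := 2) (d := 2) one_le_two le_rfl
  set q := Fintype.card F with hq
  have h1 : 1 < q := Fintype.one_lt_card
  have hdet : ((A ^ (q - 1) : GL (Fin 2) F) : Matrix (Fin 2) (Fin 2) F).det = 1 := by
    rw [Units.val_pow_eq_pow_val, Matrix.det_pow]
    exact FiniteField.pow_card_sub_one_eq_one _ (A.isUnit.map Matrix.detMonoidHom).ne_zero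
  let M : SpecialLinearGroup (Fin 2) F := ⟨_, hdet⟩
  have hk : orderOf M = q + 1 := by
    rw [← orderOf_injective SpecialLinearGroup.toGL SpecialLinearGroup.toGL_injective,
      show SpecialLinearGroup.toGL M = A ^ (q - 1) from Units.ext rfl,
      orderOf_pow' _ (by omega), hA]
    have e : q ^ 2 - 1 = (q + 1) * (q - 1) := by rw [← Nat.sq_sub_sq, one_pow]
    rw [e, Nat.gcd_mul_left_left, Nat.mul_div_cancel _ (by omega)]
  obtain ⟨g, hg⟩ := exists_order_p_mul (p := p) (k := M) (by rw [hk]; exact not_dvd_of_sub_one.2)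
  exact ⟨g, by rw [hg, hk]⟩

end Cfsg.Agent.Lib.G2Spectrum
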