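import Cfsg.Agent.Lib.G2Spectrum.Elements

/-!
An element of order `q² - q + 1`: a special unitary matrix, conjugated into the fixed field.
-/

set_option autoImplicit false
set_option linter.style.haveILetI false
set_option linter.unusedSimpArgs false
set_option linter.unusedSectionVars false

namespace Cfsg.Agent.Lib.G2Spectrum

open Matrix Cfsg.Lie Cfsg.Agent.Lib.ZornG2 Cfsg.Agent.Lib.G2Inv

variable {F : Type*} [Field F] {E : Type*} [Field E]

theorem comp_single (f : F →+* E) (j : Fin 8) : (f ∘ Pi.single j (1 : F)) = Pi.single j (1 : E) := by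
  funext i; rcases eq_or_ne i j with rfl | h <;> simp [*]

theorem g2Map_sl3Hom (f : F →+* E) (M : SpecialLinearGroup (Fin 3) F) :
    g2Map f (sl3Hom F M) = sl3Hom E (SpecialLinearGroup.map f M) := by
  refine Subtype.ext (Units.ext (Matrix.ext_of_mulVec_single fun j => ?_))
  show act (g2Map f (sl3Hom F M)) (Pi.single j 1) = act (sl3Hom E (SpecialLinearGroup.map f M)) (Pi.single j 1)
  rw [← comp_single f, act_g2Map, act_sl3Hom, act_sl3Hom,
    show (SpecialLinearGroup.map f M).1 = M.1.map f from rfl]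
  funext i
  fin_cases i <;>
    simp [sl3Lin, mkZ, zA, zB, Matrix.mulVec, dotProduct, Fin.sum_univ_three, Matrix.adjugate_fin_three]

/-- The image of a pair. -/
def mapPair (f : F →+* E) (P : ↥(pairK F)) : ↥(pairK E) :=
  ⟨(Matrix.GeneralLinearGroup.map f P.1.1, Matrix.GeneralLinearGroup.map f P.1.2), by
    rw [mem_pairK]
    show ((P.1.1 : Matrix (Fin 2) (Fin 2) F).map f).det = ((P.1.2 : Matrix (Fin 2) (Fin 2) F).map f).det
    rw [← RingHom.mapMatrix_apply, ← RingHom.mapMatrix_apply, ← RingHom.map_det, ← RingHom.map_det, mem_pairK.1 P.2]⟩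

theorem g2Map_pairHom (f : F →+* E) (P : ↥(pairK F)) : g2Map f (pairHom F P) = pairHom E (mapPair f P) := by
  refine Subtype.ext (Units.ext (Matrix.ext_of_mulVec_single fun j => ?_))
  show act (g2Map f (pairHom F P)) (Pi.single j 1) = act (pairHom E (mapPair f P)) (Pi.single j 1)
  rw [← comp_single f, act_g2Map, act_pairHom, act_pairHom]
  have hq : ∀ y : Fin 8 → F, quat (f ∘ y) = (quat y).map f := fun y => by
    ext a b; fin_cases a <;> fin_cases b <;> simp [quat]
  have hw : ∀ y : Fin 8 → F, perp (f ∘ y) = (perp y).map f := fun y => by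
    ext a b; fin_cases a <;> fin_cases b <;> simp [perp]
  have hi : ∀ A : GL (Fin 2) F, (((Matrix.GeneralLinearGroup.map f A)⁻¹ : GL (Fin 2) E) : Matrix (Fin 2) (Fin 2) E) =
      ((A⁻¹ : GL (Fin 2) F) : Matrix (Fin 2) (Fin 2) F).map f := fun A => by rw [← map_inv]; rfl
  refine pair_ext ?_ ?_
  · rw [hq, quat_pairLin, quat_pairLin, hq, Matrix.map_mul, Matrix.map_mul, show (mapPair f P).1.1 =
      Matrix.GeneralLinearGroup.map f P.1.1 from rfl, hi]
    rfl
  · rw [hw, perp_pairLin, perp_pairLin, hw, Matrix.map_mul, Matrix.map_mul, show (mapPair f P).1.1 =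
      Matrix.GeneralLinearGroup.map f P.1.1 from rfl, hi]
    rfl

/-- The exchange of the two halves. -/
def swapMat (E : Type*) [Field E] : GL (Fin 2) E :=
  ⟨!![0, 1; -1, 0], !![0, -1; 1, 0], by ext i j; fin_cases i <;> fin_cases j <;> simp,
    by ext i j; fin_cases i <;> fin_cases j <;> simp⟩

/-- The exchange as a pair. -/
def swapPair (E : Type*) [Field E] : ↥(pairK E) := ⟨(swapMat E, swapMat E), rfl⟩

theorem act_swap (x : Fin 8 → E) :
    act (pairHom E (swapPair E)) x = ![x 7, -x 4, -x 5, -x 6, -x 1, -x 2, -x 3, x 0] := by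
  rw [act_pairHom]
  funext i
  fin_cases i <;> simp [pairLin, swapPair, swapMat, ofPair, quat, perp, Matrix.mul_apply, Fin.sum_univ_two,
    Matrix.vecMul, dotProduct]

theorem swap_conj (M N : SpecialLinearGroup (Fin 3) E) (h : N.1 = M.1.adjugateᵀ) :
    pairHom E (swapPair E) * sl3Hom E N = sl3Hom E M * pairHom E (swapPair E) := by
  have hN : N.1.adjugateᵀ = M.1 := by
    rw [h, ← Matrix.adjugate_transpose, Matrix.transpose_transpose, Matrix.adjugate_adjugate _ (by simp), M.2]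
    simp
  refine ext_of_act fun x => ?_
  rw [act_mul, act_mul, act_sl3Hom, act_sl3Hom, act_swap, act_swap]
  funext i
  have hA : N.1 = M.1.adjugateᵀ := h
  show ![(sl3Lin N.1 x) 7, -(sl3Lin N.1 x) 4, -(sl3Lin N.1 x) 5, -(sl3Lin N.1 x) 6, -(sl3Lin N.1 x) 1,
    -(sl3Lin N.1 x) 2, -(sl3Lin N.1 x) 3, (sl3Lin N.1 x) 0] i = _
  simp only [sl3Lin, LinearMap.coe_mk, AddHom.coe_mk, hN]
  rw [hA]
  fin_cases i <;>
    simp [mkZ, zA, zB, Matrix.mulVec, dotProduct, Fin.sum_univ_three] <;> ring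

theorem descend (f : F →+* E) (g : ↥(Cfsg.Lie.G2 E))
    (h : ∀ i j, ∃ c : F, f c = ((g : GL (Fin 8) E) : Matrix (Fin 8) (Fin 8) E) i j) :
    ∃ g₀ : ↥(Cfsg.Lie.G2 F), g2Map f g₀ = g := by
  choose A hA using h
  let M : Matrix (Fin 8) (Fin 8) F := Matrix.of A
  have hM : M.map f = ((g : GL (Fin 8) E) : Matrix (Fin 8) (Fin 8) E) := by ext i j; exact hA i j
  have hdet : M.det ≠ 0 := fun e => by
    have := congrArg f e
    rw [RingHom.map_det, RingHom.mapMatrix_apply, hM, map_zero] at this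
    exact ((g : GL (Fin 8) E).isUnit.map Matrix.detMonoidHom).ne_zero this
  have hmem : Matrix.GeneralLinearGroup.mkOfDetNeZero M hdet ∈ Cfsg.Lie.G2 F := by
    rw [mem_G2_iff]
    intro c
    refine Matrix.map_injective f.injective ?_
    simp only [Matrix.map_mul, lB_map, leftF_map]
    have := (mem_G2_iff (g : GL (Fin 8) E)).1 g.2 c
    rw [← hM] at this
    exact this
  exact ⟨⟨_, hmem⟩, Subtype.ext (Units.ext hM)⟩

variable [Fintype F]

theorem exists_order_minus :
    ∃ g : ↥(Cfsg.Lie.G2 F), orderOf g = Fintype.card F ^ 2 - Fintype.card F + 1 := by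
  classical
  obtain ⟨p, hp⟩ := CharP.exists F
  haveI : Fact p.Prime := ⟨CharP.char_is_prime F p⟩
  set q := Fintype.card F with hq
  have h1 : 1 < q := Fintype.one_lt_card
  let K := FiniteField.Extension F p 2
  haveI : Fintype K := Fintype.ofFinite K
  haveI : CharP K p := charP_of_injective_ringHom (algebraMap F K).injective p
  have hK : Fintype.card K = q ^ 2 := by
    rw [← Nat.card_eq_fintype_card, FiniteField.natCard_extension, Nat.card_eq_fintype_card]
  let σ : K →+* K := (FiniteField.frobeniusAlgHom F K).toRingHom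
  have hσ : ∀ x, σ x = x ^ q := fun x => rfl
  have hσ2 : ∀ x, σ (σ x) = x := fun x => by rw [hσ, hσ, ← pow_mul, ← sq, ← hK, FiniteField.pow_card]
  obtain ⟨y, hy⟩ := isCyclic_iff_exists_orderOf_eq_natCard.1 (inferInstance : IsCyclic Kˣ)
  rw [Nat.card_units, Nat.card_eq_fintype_card, hK] at hy
  obtain ⟨θ, hθ⟩ : ∃ θ : K, σ θ ≠ θ := ⟨y, fun e => by
    have e2 : y ^ (q - 1) = 1 := Units.ext (mul_right_cancel₀ y.ne_zero (by
      rw [Units.val_pow_eq_pow_val, ← pow_succ, Nat.sub_add_cancel h1.le, ← hσ, e, Units.val_one, one_mul]))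
    have := Nat.le_of_dvd (by omega) (hy ▸ orderOf_dvd_of_pow_eq_one e2)
    nlinarith [Nat.sub_add_cancel h1.le, Nat.sub_add_cancel (show 1 ≤ q ^ 2 from Nat.one_le_pow _ _ (by omega))]⟩
  obtain ⟨b, hb⟩ : ∃ b : K, σ b * b = -1 := by
    rcases Nat.Prime.eq_two_or_odd' (Fact.out : p.Prime) with h2 | h2
    · subst h2
      exact ⟨1, by rw [map_one, one_mul, CharTwo.neg_eq]⟩
    · obtain ⟨r, -, hr⟩ := FiniteField.card F p
      obtain ⟨j, hj⟩ := h2.pow (n := (r : ℕ))
      have hq' : q = 2 * j + 1 := by rw [hq, hr, hj]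
      refine ⟨((y ^ j : Kˣ) : K), ?_⟩
      rw [hσ, ← pow_succ, Units.val_pow_eq_pow_val, ← pow_mul]
      have hm : j * (q + 1) * 2 = q ^ 2 - 1 := by
        rw [hq']; have : (2 * j + 1) ^ 2 = j * (2 * j + 1 + 1) * 2 + 1 := by ring
        omega
      have e1 : ((y : K) ^ (j * (q + 1))) * ((y : K) ^ (j * (q + 1))) = 1 := by
        rw [← pow_add, show j * (q + 1) + j * (q + 1) = q ^ 2 - 1 by omega, ← Units.val_pow_eq_pow_val, ← hy,
          pow_orderOf_eq_one, Units.val_one]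
      refine (mul_self_eq_one_iff.1 e1).resolve_left fun e => ?_
      have e2 : y ^ (j * (q + 1)) = 1 := Units.ext (by rw [Units.val_pow_eq_pow_val, e, Units.val_one])
      have h0 : 0 < j * (q + 1) := Nat.mul_pos (by omega) (by omega)
      have := Nat.le_of_dvd h0 (hy ▸ orderOf_dvd_of_pow_eq_one e2)
      omega
  have hb0 : b ≠ 0 := fun e => by simp [e] at hb
  let H₀ : Matrix (Fin 2) (Fin 2) K := !![1, θ; b, b * σ θ]
  have hH : H₀.det ≠ 0 := by
    rw [Matrix.det_fin_two_of, one_mul, show b * σ θ - θ * b = b * (σ θ - θ) by ring]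
    exact mul_ne_zero hb0 (sub_ne_zero.2 hθ)
  let H := Matrix.GeneralLinearGroup.mkOfDetNeZero H₀ hH
  let P : ↥(pairK K) := ⟨(H, H), rfl⟩
  have hsb : σ b ≠ 0 := by simpa using hb0
  have hker : pairHom K (scalK K (Units.mk0 _ hsb)) = 1 := by
    rw [← MonoidHom.mem_ker, ker_pairHom]; exact ⟨_, rfl⟩
  have hGL : swapMat K * Matrix.GeneralLinearGroup.map σ H = diag2 (Units.mk0 _ hsb) (Units.mk0 _ hsb) * H := by
    refine Units.ext ?_
    show (!![0, 1; -1, 0] : Matrix (Fin 2) (Fin 2) K) * H₀.map σ = _ * H₀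
    ext i j
    fin_cases i <;> fin_cases j <;>
      simp [H₀, diag2, Matrix.mul_apply, Fin.sum_univ_two, hσ2, Matrix.vecMul, dotProduct] <;>
      first | (ring; done) | linear_combination hb | linear_combination -hb | linear_combination (σ θ) * hb |
        linear_combination (-(σ θ)) * hb
  have hT : swapPair K * mapPair σ P = scalK K (Units.mk0 _ hsb) * P := Subtype.ext (Prod.ext hGL hGL)
  set h := pairHom K P
  set τ := pairHom K (swapPair K)
  have hh : τ * g2Map σ h = h := by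
    rw [g2Map_pairHom, ← map_mul, hT, map_mul, hker, one_mul]
  obtain ⟨G, w, hG, hw, hwd, hwo⟩ := ElementOrders.exists_SU_torus hK h1 hσ (D := 3) (by norm_num)
  have hne : σ ≠ RingHom.id K := fun e => hθ (by rw [e]; rfl)
  obtain ⟨Φ, hΦ, hΦd, -, hΦh⟩ := ElementOrders.exists_transport hne hσ2 (Equiv.refl (Fin 3)) hG
  have hN := hΦh w hw
  rw [ElementOrders.HermPreserves, Matrix.mul_one] at hN
  let M : SpecialLinearGroup (Fin 3) K := ⟨(Φ w)ᵀ, by rw [Matrix.det_transpose, hΦd, hwd]⟩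
  have hM : (SpecialLinearGroup.map σ M).1 = M.1.adjugateᵀ := by
    show M.1.map σ = M.1.adjugateᵀ
    have e : M.1 * (M.1.map σ)ᵀ = 1 := by
      show (Φ w)ᵀ * ((Φ w)ᵀ.map σ)ᵀ = 1
      rw [Matrix.transpose_map, Matrix.transpose_transpose]; exact hN
    have e2 : (M.1.map σ)ᵀ = M.1.adjugate := by
      have e3 : M.1.adjugate * M.1 = 1 := by rw [Matrix.adjugate_mul, M.2, one_smul]
      rw [← Matrix.one_mul (M.1.map σ)ᵀ, ← e3, Matrix.mul_assoc, e, Matrix.mul_one]
    rw [← e2, Matrix.transpose_transpose]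
  set g := h⁻¹ * sl3Hom K M * h
  have hfix : g2Map σ g = g := by
    have e := swap_conj M (SpecialLinearGroup.map σ M) hM
    have hh' : g2Map σ h = τ⁻¹ * h := eq_inv_mul_of_mul_eq hh
    show g2Map σ (h⁻¹ * sl3Hom K M * h) = _
    rw [map_mul, map_mul, map_inv, g2Map_sl3Hom, hh', _root_.mul_inv_rev, inv_inv]
    calc h⁻¹ * τ * sl3Hom K (SpecialLinearGroup.map σ M) * (τ⁻¹ * h)
        = h⁻¹ * (τ * sl3Hom K (SpecialLinearGroup.map σ M)) * τ⁻¹ * h := by group
      _ = g := by rw [e]; show h⁻¹ * (sl3Hom K M * τ) * τ⁻¹ * h = h⁻¹ * sl3Hom K M * h; group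
  obtain ⟨g₀, hg₀⟩ := descend (algebraMap F K) g fun i j => ElementOrders.HalfTorus.exists_algebraMap_eq (by
    have := congrArg (fun x : ↥(Cfsg.Lie.G2 K) => ((x : GL (Fin 8) K) : Matrix (Fin 8) (Fin 8) K) i j) hfix
    exact this)
  refine ⟨g₀, ?_⟩
  rw [← orderOf_injective _ (g2Map_injective (algebraMap F K)), hg₀,
    orderOf_eq_orderOf_iff.2 (fun n => (isConj_iff.2 ⟨h, by show h * g * h⁻¹ = sl3Hom K M; show h * (h⁻¹ * sl3Hom K M * h) * h⁻¹ = _; group⟩ : IsConj g (sl3Hom K M)).pow n |> fun c => ⟨fun e => isConj_one_right.1 (e ▸ c), fun e => isConj_one_left.1 (e ▸ c)⟩),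
    orderOf_injective _ sl3Hom_injective]
  have e : orderOf M = orderOf (Φ w) := orderOf_eq_orderOf_iff.2 fun n => by
    have hv : M ^ n = 1 ↔ M.1 ^ n = 1 :=
      ⟨fun e => by rw [← Matrix.SpecialLinearGroup.coe_pow, e]; rfl,
        fun e => Subtype.ext (by rw [Matrix.SpecialLinearGroup.coe_pow, e]; rfl)⟩
    rw [hv]
    show (Φ w)ᵀ ^ n = 1 ↔ _
    rw [← Matrix.transpose_pow, Matrix.transpose_eq_one]
  rw [e, orderOf_injective Φ hΦ, hwo, ElementOrders.unitaryA, if_neg (by decide)]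
  refine Nat.div_eq_of_eq_mul_left (by omega) ?_
  obtain ⟨r, hr⟩ : ∃ r, q = r + 1 := ⟨q - 1, by omega⟩
  have e1 : q ^ 2 - q = (r + 1) * r := by rw [hr, sq, ← Nat.mul_sub_one]; simp
  rw [e1, hr]; ring

end Cfsg.Agent.Lib.G2Spectrum
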