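import Cfsg.Agent.Lib.G2Spectrum.Base

/-!
Four explicit automorphisms of Zorn's algebra over prime fields.
-/

set_option autoImplicit false

namespace Cfsg.Agent.Lib.G2Spectrum

open Matrix Cfsg.Lie Cfsg.Agent.Lib.ZornG2 Cfsg.Agent.Lib.G2Inv

theorem fact_prime_five : Fact (Nat.Prime 5) := ⟨by norm_num⟩

attribute [local instance] fact_prime_five

theorem exists_g2_of_mat {F : Type*} [Field F] {p : ℕ} [Fact p.Prime] [CharP F p]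
    (A B : Matrix (Fin 8) (Fin 8) (ZMod p)) (h1 : A * B = 1) (h2 : B * A = 1)
    (hmem : ∀ c, A * lB (ZMod p) c = leftF (fun i => A i c) * A) {n : ℕ} (hn : orderOf A = n) :
    ∃ g : ↥(Cfsg.Lie.G2 F), orderOf g = n := by
  let g₀ : ↥(Cfsg.Lie.G2 (ZMod p)) := ⟨⟨A, B, h1, h2⟩, (mem_G2_iff _).2 hmem⟩
  refine ⟨g2Map (ZMod.castHom dvd_rfl F) g₀, ?_⟩
  rw [orderOf_injective _ (g2Map_injective _), ← hn, ← Subgroup.orderOf_coe, ← orderOf_units]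

/-- A matrix of order 8. -/
def mat8 : Matrix (Fin 8) (Fin 8) (ZMod 2) := !![0, 0, 0, 0, 0, 0, 0, 1; 0, 0, 0, 0, 0, 1, 0, 0; 0, 0, 0, 0, 1, 0, 1, 0; 0, 0, 0, 0, 0, 0, 1, 0; 0, 0, 1, 0, 0, 0, 0, 0; 0, 1, 0, 0, 0, 0, 0, 0; 0, 1, 0, 1, 0, 0, 0, 0; 1, 0, 0, 0, 0, 0, 0, 0]

/-- Its power 2. -/
def mat8p2 : Matrix (Fin 8) (Fin 8) (ZMod 2) := !![1, 0, 0, 0, 0, 0, 0, 0; 0, 1, 0, 0, 0, 0, 0, 0; 0, 1, 1, 1, 0, 0, 0, 0; 0, 1, 0, 1, 0, 0, 0, 0; 0, 0, 0, 0, 1, 0, 1, 0; 0, 0, 0, 0, 0, 1, 0, 0; 0, 0, 0, 0, 0, 1, 1, 0; 0, 0, 0, 0, 0, 0, 0, 1]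

/-- Its power 3. -/
def mat8p3 : Matrix (Fin 8) (Fin 8) (ZMod 2) := !![0, 0, 0, 0, 0, 0, 0, 1; 0, 0, 0, 0, 0, 1, 0, 0; 0, 0, 0, 0, 1, 1, 0, 0; 0, 0, 0, 0, 0, 1, 1, 0; 0, 1, 1, 1, 0, 0, 0, 0; 0, 1, 0, 0, 0, 0, 0, 0; 0, 0, 0, 1, 0, 0, 0, 0; 1, 0, 0, 0, 0, 0, 0, 0]

/-- Its power 4. -/
def mat8p4 : Matrix (Fin 8) (Fin 8) (ZMod 2) := !![1, 0, 0, 0, 0, 0, 0, 0; 0, 1, 0, 0, 0, 0, 0, 0; 0, 1, 1, 0, 0, 0, 0, 0; 0, 0, 0, 1, 0, 0, 0, 0; 0, 0, 0, 0, 1, 1, 0, 0; 0, 0, 0, 0, 0, 1, 0, 0; 0, 0, 0, 0, 0, 0, 1, 0; 0, 0, 0, 0, 0, 0, 0, 1]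

/-- Its power 6. -/
def mat8p6 : Matrix (Fin 8) (Fin 8) (ZMod 2) := !![1, 0, 0, 0, 0, 0, 0, 0; 0, 1, 0, 0, 0, 0, 0, 0; 0, 0, 1, 1, 0, 0, 0, 0; 0, 1, 0, 1, 0, 0, 0, 0; 0, 0, 0, 0, 1, 1, 1, 0; 0, 0, 0, 0, 0, 1, 0, 0; 0, 0, 0, 0, 0, 1, 1, 0; 0, 0, 0, 0, 0, 0, 0, 1]

/-- Its power 7. -/
def mat8p7 : Matrix (Fin 8) (Fin 8) (ZMod 2) := !![0, 0, 0, 0, 0, 0, 0, 1; 0, 0, 0, 0, 0, 1, 0, 0; 0, 0, 0, 0, 1, 0, 0, 0; 0, 0, 0, 0, 0, 1, 1, 0; 0, 0, 1, 1, 0, 0, 0, 0; 0, 1, 0, 0, 0, 0, 0, 0; 0, 0, 0, 1, 0, 0, 0, 0; 1, 0, 0, 0, 0, 0, 0, 0]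

/-- Its power 8. -/
def mat8p8 : Matrix (Fin 8) (Fin 8) (ZMod 2) := !![1, 0, 0, 0, 0, 0, 0, 0; 0, 1, 0, 0, 0, 0, 0, 0; 0, 0, 1, 0, 0, 0, 0, 0; 0, 0, 0, 1, 0, 0, 0, 0; 0, 0, 0, 0, 1, 0, 0, 0; 0, 0, 0, 0, 0, 1, 0, 0; 0, 0, 0, 0, 0, 0, 1, 0; 0, 0, 0, 0, 0, 0, 0, 1]

theorem mat8_pow2 : mat8 ^ 2 = mat8p2 := by
  refine (pow_add mat8 1 1).trans ?_
  rw [pow_one]
  decide +kernel

theorem mat8_pow3 : mat8 ^ 3 = mat8p3 := by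
  refine (pow_add mat8 2 1).trans ?_
  rw [mat8_pow2, pow_one]
  decide +kernel

theorem mat8_pow4 : mat8 ^ 4 = mat8p4 := by
  refine (pow_add mat8 2 2).trans ?_
  rw [mat8_pow2]
  decide +kernel

theorem mat8_pow6 : mat8 ^ 6 = mat8p6 := by
  refine (pow_add mat8 3 3).trans ?_
  rw [mat8_pow3]
  decide +kernel

theorem mat8_pow7 : mat8 ^ 7 = mat8p7 := by
  refine (pow_add mat8 6 1).trans ?_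
  rw [mat8_pow6, pow_one]
  decide +kernel

theorem mat8_pow8 : mat8 ^ 8 = mat8p8 := by
  refine (pow_add mat8 4 4).trans ?_
  rw [mat8_pow4]
  decide +kernel

theorem exists_g2_order8 (F : Type*) [Field F] [CharP F 2] :
    ∃ g : ↥(Cfsg.Lie.G2 F), orderOf g = 8 := by
  refine exists_g2_of_mat mat8 mat8p7 (by decide +kernel) (by decide +kernel) (by decide +kernel) ?_
  have h1 : mat8p8 = 1 := by decide +kernel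
  refine (orderOf_eq_prime_pow (p := 2) (n := 2) ?_ ?_).trans (by norm_num)
  · show ¬mat8 ^ 4 = 1
    rw [mat8_pow4]; decide +kernel
  · show mat8 ^ 8 = 1
    rw [mat8_pow8, h1]

/-- A matrix of order 12. -/
def mat12 : Matrix (Fin 8) (Fin 8) (ZMod 2) := !![1, 1, 0, 0, 0, 0, 0, 0; 0, 0, 0, 1, 0, 1, 0, 0; 0, 1, 0, 0, 0, 0, 0, 0; 0, 1, 1, 0, 0, 0, 1, 0; 0, 0, 0, 0, 0, 0, 1, 0; 1, 1, 0, 0, 1, 1, 0, 1; 0, 0, 0, 0, 0, 1, 0, 0; 0, 1, 0, 0, 0, 0, 0, 1]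

/-- Its power 2. -/
def mat12p2 : Matrix (Fin 8) (Fin 8) (ZMod 2) := !![1, 1, 0, 1, 0, 1, 0, 0; 1, 0, 1, 0, 1, 1, 1, 1; 0, 0, 0, 1, 0, 1, 0, 0; 0, 1, 0, 1, 0, 0, 0, 0; 0, 0, 0, 0, 0, 1, 0, 0; 0, 1, 0, 1, 1, 0, 1, 0; 1, 1, 0, 0, 1, 1, 0, 1; 0, 1, 0, 1, 0, 1, 0, 1]

/-- Its power 3. -/
def mat12p3 : Matrix (Fin 8) (Fin 8) (ZMod 2) := !![0, 1, 1, 1, 1, 0, 1, 1; 0, 0, 0, 0, 1, 0, 1, 0; 1, 0, 1, 0, 1, 1, 1, 1; 0, 1, 1, 1, 0, 1, 1, 0; 1, 1, 0, 0, 1, 1, 0, 1; 0, 1, 1, 1, 0, 0, 0, 0; 0, 1, 0, 1, 1, 0, 1, 0; 1, 1, 1, 1, 1, 0, 1, 0]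

/-- Its power 4. -/
def mat12p4 : Matrix (Fin 8) (Fin 8) (ZMod 2) := !![0, 1, 1, 1, 0, 0, 0, 1; 0, 0, 0, 0, 0, 1, 1, 0; 0, 0, 0, 0, 1, 0, 1, 0; 1, 1, 1, 1, 1, 1, 1, 1; 0, 1, 0, 1, 1, 0, 1, 0; 0, 0, 1, 1, 0, 1, 1, 0; 0, 1, 1, 1, 0, 0, 0, 0; 1, 1, 1, 1, 0, 0, 0, 0]

/-- Its power 5. -/
def mat12p5 : Matrix (Fin 8) (Fin 8) (ZMod 2) := !![0, 1, 1, 1, 0, 1, 1, 1; 1, 1, 0, 0, 1, 0, 0, 1; 0, 0, 0, 0, 0, 1, 1, 0; 0, 1, 1, 1, 1, 1, 0, 0; 0, 1, 1, 1, 0, 0, 0, 0; 1, 1, 1, 0, 1, 0, 1, 1; 0, 0, 1, 1, 0, 1, 1, 0; 1, 1, 1, 1, 0, 1, 1, 0]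

/-- Its power 6. -/
def mat12p6 : Matrix (Fin 8) (Fin 8) (ZMod 2) := !![1, 0, 1, 1, 1, 1, 1, 0; 1, 0, 0, 1, 0, 1, 1, 1; 1, 1, 0, 0, 1, 0, 0, 1; 1, 1, 1, 1, 1, 0, 0, 1; 0, 0, 1, 1, 0, 1, 1, 0; 1, 1, 0, 1, 0, 0, 1, 1; 1, 1, 1, 0, 1, 0, 1, 1; 0, 0, 1, 1, 1, 1, 1, 1]

/-- Its power 10. -/
def mat12p10 : Matrix (Fin 8) (Fin 8) (ZMod 2) := !![1, 0, 0, 1, 1, 0, 0, 0; 0, 0, 1, 1, 1, 0, 0, 0; 1, 1, 0, 1, 1, 1, 0, 1; 0, 0, 1, 0, 1, 0, 0, 0; 1, 0, 1, 1, 0, 0, 1, 1; 0, 0, 0, 0, 1, 0, 0, 0; 1, 0, 1, 0, 0, 1, 1, 1; 0, 0, 0, 1, 1, 0, 0, 1]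

/-- Its power 11. -/
def mat12p11 : Matrix (Fin 8) (Fin 8) (ZMod 2) := !![1, 0, 1, 0, 0, 0, 0, 0; 0, 0, 1, 0, 0, 0, 0, 0; 0, 0, 1, 1, 1, 0, 0, 0; 0, 1, 0, 0, 0, 0, 1, 0; 1, 0, 1, 0, 0, 1, 1, 1; 0, 0, 0, 0, 0, 0, 1, 0; 0, 0, 0, 0, 1, 0, 0, 0; 0, 0, 1, 0, 0, 0, 0, 1]

/-- Its power 12. -/
def mat12p12 : Matrix (Fin 8) (Fin 8) (ZMod 2) := !![1, 0, 0, 0, 0, 0, 0, 0; 0, 1, 0, 0, 0, 0, 0, 0; 0, 0, 1, 0, 0, 0, 0, 0; 0, 0, 0, 1, 0, 0, 0, 0; 0, 0, 0, 0, 1, 0, 0, 0; 0, 0, 0, 0, 0, 1, 0, 0; 0, 0, 0, 0, 0, 0, 1, 0; 0, 0, 0, 0, 0, 0, 0, 1]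

theorem mat12_pow2 : mat12 ^ 2 = mat12p2 := by
  refine (pow_add mat12 1 1).trans ?_
  rw [pow_one]
  decide +kernel

theorem mat12_pow3 : mat12 ^ 3 = mat12p3 := by
  refine (pow_add mat12 2 1).trans ?_
  rw [mat12_pow2, pow_one]
  decide +kernel

theorem mat12_pow4 : mat12 ^ 4 = mat12p4 := by
  refine (pow_add mat12 2 2).trans ?_
  rw [mat12_pow2]
  decide +kernel

theorem mat12_pow5 : mat12 ^ 5 = mat12p5 := by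
  refine (pow_add mat12 4 1).trans ?_
  rw [mat12_pow4, pow_one]
  decide +kernel

theorem mat12_pow6 : mat12 ^ 6 = mat12p6 := by
  refine (pow_add mat12 3 3).trans ?_
  rw [mat12_pow3]
  decide +kernel

theorem mat12_pow10 : mat12 ^ 10 = mat12p10 := by
  refine (pow_add mat12 5 5).trans ?_
  rw [mat12_pow5]
  decide +kernel

theorem mat12_pow11 : mat12 ^ 11 = mat12p11 := by
  refine (pow_add mat12 10 1).trans ?_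
  rw [mat12_pow10, pow_one]
  decide +kernel

theorem mat12_pow12 : mat12 ^ 12 = mat12p12 := by
  refine (pow_add mat12 6 6).trans ?_
  rw [mat12_pow6]
  decide +kernel

theorem exists_g2_order12 (F : Type*) [Field F] [CharP F 2] :
    ∃ g : ↥(Cfsg.Lie.G2 F), orderOf g = 12 := by
  refine exists_g2_of_mat mat12 mat12p11 (by decide +kernel) (by decide +kernel) (by decide +kernel) ?_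
  have h1 : mat12p12 = 1 := by decide +kernel
  refine orderOf_eq_of_pow_and_pow_div_prime (by norm_num) (mat12_pow12.trans h1) fun r hr hd => ?_
  obtain rfl | rfl : r = 2 ∨ r = 3 := by
    have := Nat.le_of_dvd (by norm_num) hd
    interval_cases r <;> first | omega | exact absurd hr (by norm_num) | exact absurd hd (by norm_num)
  · show ¬mat12 ^ 6 = 1
    rw [mat12_pow6]; decide +kernel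
  · show ¬mat12 ^ 4 = 1
    rw [mat12_pow4]; decide +kernel

/-- A matrix of order 9. -/
def mat9 : Matrix (Fin 8) (Fin 8) (ZMod 3) := !![1, 0, 0, 0, 1, 0, 0, 0; 0, 0, 1, 0, 0, 0, 0, 0; 1, 2, 2, 0, 1, 0, 0, 2; 0, 0, 0, 1, 0, 0, 0, 0; 0, 0, 0, 1, 2, 1, 0, 0; 0, 0, 0, 0, 2, 0, 0, 0; 0, 0, 2, 0, 0, 0, 1, 0; 0, 0, 0, 0, 2, 0, 0, 1]

/-- Its power 2. -/
def mat9p2 : Matrix (Fin 8) (Fin 8) (ZMod 3) := !![1, 0, 0, 1, 0, 1, 0, 0; 1, 2, 2, 0, 1, 0, 0, 2; 0, 1, 0, 1, 0, 1, 0, 0; 0, 0, 0, 1, 0, 0, 0, 0; 0, 0, 0, 0, 0, 2, 0, 0; 0, 0, 0, 2, 1, 2, 0, 0; 2, 1, 0, 0, 2, 0, 1, 1; 0, 0, 0, 2, 0, 2, 0, 1]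

/-- Its power 3. -/
def mat9p3 : Matrix (Fin 8) (Fin 8) (ZMod 3) := !![1, 0, 0, 1, 0, 0, 0, 0; 0, 1, 0, 1, 0, 1, 0, 0; 0, 0, 1, 1, 2, 0, 0, 0; 0, 0, 0, 1, 0, 0, 0, 0; 0, 0, 0, 0, 1, 0, 0, 0; 0, 0, 0, 0, 0, 1, 0, 0; 2, 0, 0, 2, 2, 2, 1, 1; 0, 0, 0, 2, 0, 0, 0, 1]

/-- Its power 4. -/
def mat9p4 : Matrix (Fin 8) (Fin 8) (ZMod 3) := !![1, 0, 0, 1, 1, 0, 0, 0; 0, 0, 1, 1, 2, 0, 0, 0; 1, 2, 2, 0, 2, 2, 0, 2; 0, 0, 0, 1, 0, 0, 0, 0; 0, 0, 0, 1, 2, 1, 0, 0; 0, 0, 0, 0, 2, 0, 0, 0; 2, 0, 2, 1, 0, 2, 1, 1; 0, 0, 0, 2, 2, 0, 0, 1]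

/-- Its power 8. -/
def mat9p8 : Matrix (Fin 8) (Fin 8) (ZMod 3) := !![1, 0, 0, 0, 0, 1, 0, 0; 1, 2, 2, 0, 0, 1, 0, 2; 0, 1, 0, 0, 0, 0, 0, 0; 0, 0, 0, 1, 0, 0, 0, 0; 0, 0, 0, 0, 0, 2, 0, 0; 0, 0, 0, 2, 1, 2, 0, 0; 0, 1, 0, 0, 0, 0, 1, 0; 0, 0, 0, 0, 0, 2, 0, 1]

/-- Its power 9. -/
def mat9p9 : Matrix (Fin 8) (Fin 8) (ZMod 3) := !![1, 0, 0, 0, 0, 0, 0, 0; 0, 1, 0, 0, 0, 0, 0, 0; 0, 0, 1, 0, 0, 0, 0, 0; 0, 0, 0, 1, 0, 0, 0, 0; 0, 0, 0, 0, 1, 0, 0, 0; 0, 0, 0, 0, 0, 1, 0, 0; 0, 0, 0, 0, 0, 0, 1, 0; 0, 0, 0, 0, 0, 0, 0, 1]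

theorem mat9_pow2 : mat9 ^ 2 = mat9p2 := by
  refine (pow_add mat9 1 1).trans ?_
  rw [pow_one]
  decide +kernel

theorem mat9_pow3 : mat9 ^ 3 = mat9p3 := by
  refine (pow_add mat9 2 1).trans ?_
  rw [mat9_pow2, pow_one]
  decide +kernel

theorem mat9_pow4 : mat9 ^ 4 = mat9p4 := by
  refine (pow_add mat9 2 2).trans ?_
  rw [mat9_pow2]
  decide +kernel

theorem mat9_pow8 : mat9 ^ 8 = mat9p8 := by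
  refine (pow_add mat9 4 4).trans ?_
  rw [mat9_pow4]
  decide +kernel

theorem mat9_pow9 : mat9 ^ 9 = mat9p9 := by
  refine (pow_add mat9 8 1).trans ?_
  rw [mat9_pow8, pow_one]
  decide +kernel

theorem exists_g2_order9 (F : Type*) [Field F] [CharP F 3] :
    ∃ g : ↥(Cfsg.Lie.G2 F), orderOf g = 9 := by
  refine exists_g2_of_mat mat9 mat9p8 (by decide +kernel) (by decide +kernel) (by decide +kernel) ?_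
  have h1 : mat9p9 = 1 := by decide +kernel
  refine (orderOf_eq_prime_pow (p := 3) (n := 1) ?_ ?_).trans (by norm_num)
  · show ¬mat9 ^ 3 = 1
    rw [mat9_pow3]; decide +kernel
  · show mat9 ^ 9 = 1
    rw [mat9_pow9, h1]

/-- A matrix of order 25. -/
def mat25 : Matrix (Fin 8) (Fin 8) (ZMod 5) := !![1, 0, 0, 2, 0, 0, 0, 0; 0, 1, 0, 0, 0, 2, 0, 0; 0, 0, 1, 0, 3, 0, 0, 0; 0, 0, 4, 1, 2, 0, 0, 0; 0, 0, 0, 0, 1, 0, 0, 0; 3, 0, 0, 1, 0, 1, 1, 2; 3, 0, 0, 1, 0, 0, 1, 2; 0, 0, 0, 3, 0, 0, 0, 1]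

/-- Its power 2. -/
def mat25p2 : Matrix (Fin 8) (Fin 8) (ZMod 5) := !![1, 0, 3, 4, 4, 0, 0, 0; 1, 1, 0, 2, 0, 4, 2, 4; 0, 0, 1, 0, 1, 0, 0, 0; 0, 0, 3, 1, 1, 0, 0, 0; 0, 0, 0, 0, 1, 0, 0, 0; 4, 0, 4, 0, 2, 1, 2, 1; 1, 0, 4, 4, 2, 0, 1, 4; 0, 0, 2, 1, 1, 0, 0, 1]

/-- Its power 3. -/
def mat25p3 : Matrix (Fin 8) (Fin 8) (ZMod 5) := !![1, 0, 4, 1, 1, 0, 0, 0; 4, 1, 3, 2, 4, 1, 1, 1; 0, 0, 1, 0, 4, 0, 0, 0; 0, 0, 2, 1, 2, 0, 0, 0; 0, 0, 0, 0, 1, 0, 0, 0; 3, 0, 4, 4, 4, 1, 3, 2; 4, 0, 0, 4, 2, 0, 1, 1; 0, 0, 1, 4, 4, 0, 0, 1]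

/-- Its power 4. -/
def mat25p4 : Matrix (Fin 8) (Fin 8) (ZMod 5) := !![1, 0, 3, 3, 0, 0, 0, 0; 0, 1, 1, 0, 2, 3, 2, 0; 0, 0, 1, 0, 2, 0, 0, 0; 0, 0, 1, 1, 0, 0, 0, 0; 0, 0, 0, 0, 1, 0, 0, 0; 0, 0, 0, 0, 4, 1, 4, 0; 2, 0, 1, 1, 0, 0, 1, 3; 0, 0, 2, 2, 0, 0, 0, 1]

/-- Its power 5. -/
def mat25p5 : Matrix (Fin 8) (Fin 8) (ZMod 5) := !![1, 0, 0, 0, 0, 0, 0, 0; 0, 1, 1, 0, 0, 0, 0, 0; 0, 0, 1, 0, 0, 0, 0, 0; 0, 0, 0, 1, 0, 0, 0, 0; 0, 0, 0, 0, 1, 0, 0, 0; 0, 0, 0, 0, 4, 1, 0, 0; 0, 0, 0, 0, 0, 0, 1, 0; 0, 0, 0, 0, 0, 0, 0, 1]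

/-- Its power 6. -/
def mat25p6 : Matrix (Fin 8) (Fin 8) (ZMod 5) := !![1, 0, 0, 2, 0, 0, 0, 0; 0, 1, 1, 0, 3, 2, 0, 0; 0, 0, 1, 0, 3, 0, 0, 0; 0, 0, 4, 1, 2, 0, 0, 0; 0, 0, 0, 0, 1, 0, 0, 0; 3, 0, 0, 1, 4, 1, 1, 2; 3, 0, 0, 1, 0, 0, 1, 2; 0, 0, 0, 3, 0, 0, 0, 1]

/-- Its power 12. -/
def mat25p12 : Matrix (Fin 8) (Fin 8) (ZMod 5) := !![1, 0, 3, 4, 4, 0, 0, 0; 1, 1, 2, 2, 2, 4, 2, 4; 0, 0, 1, 0, 1, 0, 0, 0; 0, 0, 3, 1, 1, 0, 0, 0; 0, 0, 0, 0, 1, 0, 0, 0; 4, 0, 4, 0, 0, 1, 2, 1; 1, 0, 4, 4, 2, 0, 1, 4; 0, 0, 2, 1, 1, 0, 0, 1]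

/-- Its power 24. -/
def mat25p24 : Matrix (Fin 8) (Fin 8) (ZMod 5) := !![1, 0, 3, 3, 0, 0, 0, 0; 0, 1, 0, 0, 0, 3, 2, 0; 0, 0, 1, 0, 2, 0, 0, 0; 0, 0, 1, 1, 0, 0, 0, 0; 0, 0, 0, 0, 1, 0, 0, 0; 0, 0, 0, 0, 0, 1, 4, 0; 2, 0, 1, 1, 0, 0, 1, 3; 0, 0, 2, 2, 0, 0, 0, 1]

/-- Its power 25. -/
def mat25p25 : Matrix (Fin 8) (Fin 8) (ZMod 5) := !![1, 0, 0, 0, 0, 0, 0, 0; 0, 1, 0, 0, 0, 0, 0, 0; 0, 0, 1, 0, 0, 0, 0, 0; 0, 0, 0, 1, 0, 0, 0, 0; 0, 0, 0, 0, 1, 0, 0, 0; 0, 0, 0, 0, 0, 1, 0, 0; 0, 0, 0, 0, 0, 0, 1, 0; 0, 0, 0, 0, 0, 0, 0, 1]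

theorem mat25_pow2 : mat25 ^ 2 = mat25p2 := by
  refine (pow_add mat25 1 1).trans ?_
  rw [pow_one]
  decide +kernel

theorem mat25_pow3 : mat25 ^ 3 = mat25p3 := by
  refine (pow_add mat25 2 1).trans ?_
  rw [mat25_pow2, pow_one]
  decide +kernel

theorem mat25_pow4 : mat25 ^ 4 = mat25p4 := by
  refine (pow_add mat25 2 2).trans ?_
  rw [mat25_pow2]
  decide +kernel

theorem mat25_pow5 : mat25 ^ 5 = mat25p5 := by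
  refine (pow_add mat25 4 1).trans ?_
  rw [mat25_pow4, pow_one]
  decide +kernel

theorem mat25_pow6 : mat25 ^ 6 = mat25p6 := by
  refine (pow_add mat25 3 3).trans ?_
  rw [mat25_pow3]
  decide +kernel

theorem mat25_pow12 : mat25 ^ 12 = mat25p12 := by
  refine (pow_add mat25 6 6).trans ?_
  rw [mat25_pow6]
  decide +kernel

theorem mat25_pow24 : mat25 ^ 24 = mat25p24 := by
  refine (pow_add mat25 12 12).trans ?_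
  rw [mat25_pow12]
  decide +kernel

theorem mat25_pow25 : mat25 ^ 25 = mat25p25 := by
  refine (pow_add mat25 24 1).trans ?_
  rw [mat25_pow24, pow_one]
  decide +kernel

theorem exists_g2_order25 (F : Type*) [Field F] [CharP F 5] :
    ∃ g : ↥(Cfsg.Lie.G2 F), orderOf g = 25 := by
  refine exists_g2_of_mat mat25 mat25p24 (by decide +kernel) (by decide +kernel) (by decide +kernel) ?_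
  have h1 : mat25p25 = 1 := by decide +kernel
  refine (orderOf_eq_prime_pow (p := 5) (n := 1) ?_ ?_).trans (by norm_num)
  · show ¬mat25 ^ 5 = 1
    rw [mat25_pow5]; decide +kernel
  · show mat25 ^ 25 = 1
    rw [mat25_pow25, h1]

end Cfsg.Agent.Lib.G2Spectrum
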