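import Cfsg.Agent.Lib.G2Spectrum.Orders
import Cfsg.Agent.Lib.G2Spectrum.Elements
import Cfsg.Agent.Lib.G2Spectrum.Minus
import Cfsg.Agent.Lib.G2Spectrum.ModP

/-!
The maximal element orders of the Chevalley groups of type `G₂`.
-/

set_option autoImplicit false
set_option linter.style.haveILetI false

namespace Cfsg.Agent.Lib.G2Spectrum

open Cfsg.Lie Cfsg.Agent.Lib.G2Inv

theorem maximal_subset {R T : Set ℕ} (hTR : T ⊆ R) (hdvd : ∀ n ∈ R, ∃ t ∈ T, n ∣ t) :
    {n : ℕ | n ∈ R ∧ ∀ m ∈ R, n ∣ m → m = n} ⊆ T := fun n ⟨hn, hmax⟩ => by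
  obtain ⟨t, ht, hnt⟩ := hdvd n hn
  exact hmax t (hTR ht) hnt ▸ ht

theorem maximal_eq {R T : Set ℕ} (hTR : T ⊆ R) (hdvd : ∀ n ∈ R, ∃ t ∈ T, n ∣ t)
    (hanti : ∀ x ∈ T, ∀ y ∈ T, x ∣ y → x = y) : {n : ℕ | n ∈ R ∧ ∀ m ∈ R, n ∣ m → m = n} = T := by
  refine Set.Subset.antisymm (maximal_subset hTR hdvd) fun x hx => ⟨hTR hx, fun m hm hxm => ?_⟩
  obtain ⟨t, ht, hmt⟩ := hdvd m hm
  exact Nat.dvd_antisymm (hanti x hx t ht (hxm.trans hmt) ▸ hmt) hxm

variable {F : Type*} [Field F] [Fintype F]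

theorem range_orderOf_eq :
    Set.range (orderOf : ↥(chevG2.group F) → ℕ) = Set.range (orderOf : ↥(Cfsg.Lie.G2 F) → ℕ) := by
  obtain ⟨ψ⟩ := nonempty_iso (F := F)
  ext n
  exact ⟨fun ⟨x, hx⟩ => ⟨ψ x, by rw [MulEquiv.orderOf_eq, hx]⟩,
    fun ⟨x, hx⟩ => ⟨ψ.symm x, by rw [MulEquiv.orderOf_eq, hx]⟩⟩

/-- The orders of the tori and their companions. -/
theorem mem_range_common (p : ℕ) [Fact p.Prime] [CharP F p] :
    ∀ n ∈ ({p * (Fintype.card F + 1), p * (Fintype.card F - 1), Fintype.card F ^ 2 - 1,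
      Fintype.card F ^ 2 + Fintype.card F + 1, Fintype.card F ^ 2 - Fintype.card F + 1} : Set ℕ),
      n ∈ Set.range (orderOf : ↥(Cfsg.Lie.G2 F) → ℕ) := by
  intro n hn
  simp only [Set.mem_insert_iff, Set.mem_singleton_iff] at hn
  rcases hn with rfl | rfl | rfl | rfl | rfl
  · exact exists_order_p_plus
  · exact exists_order_p_minus
  · exact exists_order_sq_sub_one
  · exact exists_order_plus
  · exact exists_order_minus

theorem antichain_odd {p q : ℕ} (hp : p.Prime) (hp2 : p ≠ 2) (hpq : p ∣ q) (hq : 5 ≤ q) :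
    ∀ x ∈ ({p * (q + 1), p * (q - 1), q ^ 2 - 1, q ^ 2 + q + 1, q ^ 2 - q + 1, p ^ 2} : Set ℕ),
    ∀ y ∈ ({p * (q + 1), p * (q - 1), q ^ 2 - 1, q ^ 2 + q + 1, q ^ 2 - q + 1, p ^ 2} : Set ℕ),
      x ∣ y → x = y := by
  have h1 : 1 < p := hp.one_lt
  have hpq' : p ≤ q := Nat.le_of_dvd (by omega) hpq
  obtain ⟨r, hr⟩ : ∃ r, q ^ 2 = q + r := ⟨q ^ 2 - q, by have := Nat.le_self_pow two_ne_zero q; omega⟩
  have hr' : 4 * q ≤ r := by nlinarith
  have sm : ¬p ∣ q - 1 := fun h => by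
    have := Nat.dvd_sub hpq h
    rw [show q - (q - 1) = 1 by omega] at this
    exact hp.not_dvd_one this
  have sp : ¬p ∣ q + 1 := fun h => hp.not_dvd_one ((Nat.dvd_add_right hpq).1 h)
  have hq2 : p ∣ q ^ 2 := dvd_pow hpq two_ne_zero
  have nC : ¬p ∣ q ^ 2 - 1 := fun h => by
    have := Nat.dvd_sub hq2 h
    rw [show q ^ 2 - (q ^ 2 - 1) = 1 by omega] at this
    exact hp.not_dvd_one this
  have nD : ¬p ∣ q ^ 2 + q + 1 := fun h => hp.not_dvd_one ((Nat.dvd_add_right (dvd_add hq2 hpq)).1 h)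
  have nE : ¬p ∣ q ^ 2 - q + 1 := fun h => hp.not_dvd_one ((Nat.dvd_add_right (Nat.dvd_sub hq2 hpq)).1 h)
  have big : ∀ {x z : ℕ}, ¬p ∣ x → 0 < z → z < x → ¬x ∣ p * z := fun {x z} h1 h2 h3 h =>
    absurd (Nat.le_of_dvd h2 ((((Nat.Prime.coprime_iff_not_dvd hp).2 h1).symm).dvd_of_dvd_mul_left h)) (by omega)
  have big2 : ∀ {x : ℕ}, ¬p ∣ x → 1 < x → ¬x ∣ p ^ 2 := fun {x} hx h3 h => by
    have := (((Nat.Prime.coprime_iff_not_dvd hp).2 hx).symm.pow_right 2).eq_one_of_dvd h
    omega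
  have cancel : ∀ {a b : ℕ}, p * a ∣ p * b → a ∣ b := fun h => Nat.dvd_of_mul_dvd_mul_left hp.pos h
  have hne : ∀ {x y : ℕ}, 0 < y → x ∣ y → y < 2 * x → x = y := fun {x y} hy h h' => by
    obtain ⟨k, hk⟩ := h
    rcases k with _ | _ | k
    · omega
    · omega
    · nlinarith
  intro x hx y hy h
  simp only [Set.mem_insert_iff, Set.mem_singleton_iff] at hx hy
  rcases hx with rfl | rfl | rfl | rfl | rfl | rfl <;> rcases hy with rfl | rfl | rfl | rfl | rfl | rfl
  all_goals first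
    | rfl
    | exact absurd (dvd_trans (dvd_mul_right p _) h) nC
    | exact absurd (dvd_trans (dvd_mul_right p _) h) nD
    | exact absurd (dvd_trans (dvd_mul_right p _) h) nE
    | exact absurd (dvd_trans (dvd_pow_self p two_ne_zero) h) nC
    | exact absurd (dvd_trans (dvd_pow_self p two_ne_zero) h) nD
    | exact absurd (dvd_trans (dvd_pow_self p two_ne_zero) h) nE
    | exact absurd h (big nC (by omega) (by omega))
    | exact absurd h (big nD (by omega) (by omega))
    | exact absurd h (big nE (by omega) (by omega))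
    | exact absurd h (big2 nC (by omega))
    | exact absurd h (big2 nD (by omega))
    | exact absurd h (big2 nE (by omega))
    | exact hne (by omega) h (by omega)
    | exact absurd (Nat.le_of_dvd (by omega) h) (by omega)
    | (exfalso
       first
        | (have := Nat.le_of_dvd (by omega) (cancel h); omega)
        | (have h' := cancel h
           have := Nat.le_of_dvd (by omega) (Nat.dvd_sub h' (dvd_refl (q - 1)))
           omega)
        | (rw [sq] at h; exact sp (cancel h))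
        | (rw [sq] at h; exact sm (cancel h))
        | (rw [sq] at h; have := Nat.le_of_dvd hp.pos (cancel h); omega)
        | (rw [sq] at h
           have h' := cancel h
           have hev : 2 ∣ q - 1 ∨ 2 ∣ q := by omega
           rcases hev with hev | hev
           · exact hp2 ((Nat.prime_dvd_prime_iff_eq Nat.prime_two hp).1 (hev.trans h')).symm
           · have := Nat.le_of_dvd hp.pos h'
             have : p = q - 1 := by
               rcases (Nat.dvd_prime hp).1 h' with e | e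
               · omega
               · exact e.symm
             exact sm (this ▸ dvd_rfl)))

end Cfsg.Agent.Lib.G2Spectrum
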