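import Cfsg.Agent.Lib.G2Spectrum.Commute
import Cfsg.Agent.Lib.G2Inv.Centralizer

/-!
The bound on element orders in the automorphism group of Zorn's algebra over a finite field.
-/

set_option autoImplicit false
set_option linter.unusedSectionVars false

namespace Cfsg.Agent.Lib.G2Spectrum

open Matrix Polynomial Cfsg.Lie Cfsg.Agent.Lib.ZornG2 Cfsg.Agent.Lib.G2Inv

variable {F : Type*} [Field F]

/-- The trace as a functional. -/
def trLin (F : Type*) [Field F] : (Fin 8 → F) →ₗ[F] F where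
  toFun := trZ
  map_add' x y := by simp [trZ]; ring
  map_smul' c x := by simp [trZ]; ring

theorem trZ_act (g : ↥(Cfsg.Lie.G2 F)) (x : Fin 8 → F) : trZ (act g x) = trZ x := by
  rw [← polZ_zOne, ← polZ_zOne x]
  conv_lhs => rw [← act_zOne g]
  rw [polZ_act]

theorem nil_pow_seven (h2 : (2 : F) ≠ 0) (g : ↥(Cfsg.Lie.G2 F))
    (hn : IsNilpotent (((g : GL (Fin 8) F) : Matrix (Fin 8) (Fin 8) F) - 1)) :
    (((g : GL (Fin 8) F) : Matrix (Fin 8) (Fin 8) F) - 1) ^ 7 = 0 := by
  set A := ((g : GL (Fin 8) F) : Matrix (Fin 8) (Fin 8) F) - 1 with hA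
  have hAv : ∀ x, A *ᵥ x = act g x - x := fun x => by rw [hA, Matrix.sub_mulVec, Matrix.one_mulVec]; rfl
  set W := LinearMap.ker (trLin F)
  set N : Module.End F (Fin 8 → F) := Matrix.toLinAlgEquiv' A
  have hN : ∀ x, N x = A *ᵥ x := fun x => rfl
  have hW : ∀ x, N x ∈ W := fun x => by
    rw [LinearMap.mem_ker, hN, hAv, map_sub]
    show trZ (act g x) - trZ x = 0
    rw [trZ_act, sub_self]
  have hr : LinearMap.range (trLin F) = ⊤ := LinearMap.range_eq_top.2 fun c =>
    ⟨(c / 2) • zOne F, by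
      rw [map_smul]; show c / 2 * trZ (zOne F) = c
      rw [← polZ_zOne, polZ_self, nZ_zOne, mul_one, div_mul_cancel₀ _ h2]⟩
  have hrank : Module.finrank F W = 7 := by
    have := LinearMap.finrank_range_add_finrank_ker (trLin F)
    rw [hr, finrank_top, Module.finrank_self, Module.finrank_fin_fun] at this
    show Module.finrank F ↥(LinearMap.ker (trLin F)) = 7
    omega
  let N' : Module.End F W := N.restrict fun x _ => hW x
  have hN' : ∀ (j : ℕ) (x : W), ((N' ^ j) x : Fin 8 → F) = (N ^ j) x := by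
    intro j
    induction j with
    | zero => intro x; rfl
    | succ j ih => intro x; rw [pow_succ', pow_succ', Module.End.mul_apply, Module.End.mul_apply, ← ih]; rfl
  have hnil : IsNilpotent N' := by
    obtain ⟨j, hj⟩ := hn
    refine ⟨j, LinearMap.ext fun x => Subtype.ext ?_⟩
    rw [hN', ← map_pow, hj, map_zero]; rfl
  have h7 : N' ^ 7 = 0 := by
    have h := LinearMap.aeval_self_charpoly N'
    rw [hnil.charpoly_eq_X_pow_finrank, hrank, map_pow, aeval_X] at h
    exact h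
  refine Matrix.toLinAlgEquiv'.injective ?_
  rw [map_pow, map_zero]
  refine LinearMap.ext fun x => ?_
  set c := trZ x / 2
  have hx : x - c • zOne F ∈ W := by
    rw [LinearMap.mem_ker, map_sub, map_smul]
    show trZ x - c * trZ (zOne F) = 0
    rw [← polZ_zOne (zOne F), polZ_self, nZ_zOne, mul_one, div_mul_cancel₀ _ h2, sub_self]
  have h1 : N (zOne F) = 0 := by rw [hN, hAv, act_zOne, sub_self]
  have h1' : (N ^ 7) (zOne F) = 0 := by rw [pow_succ, Module.End.mul_apply, h1, map_zero]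
  show (N ^ 7) x = 0
  have e := hN' 7 ⟨_, hx⟩
  rw [h7] at e
  rw [map_sub, map_smul, h1', smul_zero, sub_zero] at e
  exact e.symm

variable {p : ℕ} [Fact p.Prime] [CharP F p]

/-- Elements of `p`-power order. -/
theorem pure_pow {u : ↥(Cfsg.Lie.G2 F)} {k : ℕ} (hu : u ^ p ^ k = 1) :
    (p = 2 → u ^ 8 = 1) ∧ ((p = 3 ∨ p = 5) → u ^ p ^ 2 = 1) ∧ (7 ≤ p → u ^ p = 1) := by
  set A := ((u : GL (Fin 8) F) : Matrix (Fin 8) (Fin 8) F)
  have hA : A ^ p ^ k = 1 := by
    rw [← Units.val_pow_eq_pow_val, ← SubmonoidClass.coe_pow, hu]; rfl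
  have back : ∀ N, A ^ N = 1 → u ^ N = 1 := fun N h => Subtype.ext (Units.ext (by
    rw [SubmonoidClass.coe_pow, Units.val_pow_eq_pow_val, h]; rfl))
  have h8 : IsNilpotent (A - 1) → (A - 1) ^ 8 = 0 := fun h => by
    simpa using nilpotent_pow_card h
  refine ⟨fun h => back 8 ?_, fun h => back _ ?_, fun h => back _ ?_⟩
  · have := pow_eq_one_of_unip hA (e := 3) h8 (by subst h; norm_num)
    subst h; exact this
  · exact pow_eq_one_of_unip hA (e := 2) h8 (by rcases h with rfl | rfl <;> norm_num)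
  · have h2 : (2 : F) ≠ 0 := fun e => by
      have := (CharP.cast_eq_zero_iff F p 2).1 (by exact_mod_cast e)
      have := Nat.le_of_dvd two_pos this; omega
    have := pow_eq_one_of_unip hA (e := 1) (m := 7) (nil_pow_seven h2 u) (by rwa [pow_one])
    rwa [pow_one] at this

theorem gl2_pow_scalar [Finite F] {A : Matrix (Fin 2) (Fin 2) F} {k : ℕ} {c : F}
    (h : A ^ p ^ k = c • 1) : ∃ e : F, e ^ p ^ k = c ∧ A ^ p = e ^ p • 1 := by
  obtain ⟨e, he⟩ := (Finite.injective_iff_surjective.1 (iterateFrobenius F p k).injective) c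
  rw [iterateFrobenius_def] at he
  refine ⟨e, he, ?_⟩
  have hc : Commute A (e • (1 : Matrix (Fin 2) (Fin 2) F)) := (Commute.one_right A).smul_right e
  have hnil : IsNilpotent (A - e • 1) :=
    ⟨p ^ k, by rw [sub_pow_char_pow_of_commute (p := p) _ hc, _root_.smul_pow, one_pow, he, h, sub_self]⟩
  have h0 : (A - e • 1) ^ p = 0 :=
    pow_eq_zero_of_le (by rw [Fintype.card_fin]; exact (Fact.out : p.Prime).two_le) (nilpotent_pow_card hnil)
  rwa [← pow_one p, sub_pow_char_pow_of_commute (p := p) _ hc, pow_one, _root_.smul_pow, one_pow, sub_eq_zero] at h0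

/-- A `p`-element commuting with an involution, in odd characteristic. -/
theorem pow_of_commute_involution [Fintype F] (h2 : (2 : F) ≠ 0) {s u : ↥(Cfsg.Lie.G2 F)} {k : ℕ}
    (hs : s * s = 1) (hs1 : s ≠ 1) (hc : Commute s u) (hu : u ^ p ^ k = 1) : u ^ p = 1 := by
  obtain ⟨g, hg⟩ := exists_conj_tStd h2 hs hs1
  have hu' : (g * u * g⁻¹) ^ p ^ k = 1 := by rw [conj_pow, hu, mul_one, mul_inv_cancel]
  suffices h : (g * u * g⁻¹) ^ p = 1 by
    rw [conj_pow] at h
    exact conj_eq_one_iff.1 h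
  obtain ⟨P, hP⟩ : g * u * g⁻¹ ∈ (pairHom F).range := by
    rw [← centralizer_tStd h2, Subgroup.mem_centralizer_singleton_iff, ← hg]
    exact (hc.conj g).symm.eq
  rw [← hP] at hu' ⊢
  rw [← map_pow] at hu' ⊢
  obtain ⟨c, hcP⟩ : P ^ p ^ k ∈ (scalK F).range := by rw [← ker_pairHom]; exact MonoidHom.mem_ker.2 hu'
  have e1 : (P.1.1 : Matrix (Fin 2) (Fin 2) F) ^ p ^ k = (c : F) • 1 := by
    have := congrArg (fun Q : ↥(pairK F) => (Q.1.1 : Matrix (Fin 2) (Fin 2) F)) hcP
    simp only [SubmonoidClass.coe_pow, Prod.pow_fst, Units.val_pow_eq_pow_val] at this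
    rw [← this]; ext i j; fin_cases i <;> fin_cases j <;> simp [scalK, diagK, diagPair, diag2]
  have e2 : (P.1.2 : Matrix (Fin 2) (Fin 2) F) ^ p ^ k = (c : F) • 1 := by
    have := congrArg (fun Q : ↥(pairK F) => (Q.1.2 : Matrix (Fin 2) (Fin 2) F)) hcP
    simp only [SubmonoidClass.coe_pow, Prod.pow_snd, Units.val_pow_eq_pow_val] at this
    rw [← this]; ext i j; fin_cases i <;> fin_cases j <;> simp [scalK, diagK, diagPair, diag2]
  obtain ⟨a, ha, f1⟩ := gl2_pow_scalar e1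
  obtain ⟨b, hb, f2⟩ := gl2_pow_scalar e2
  have hab : a = b := (iterateFrobenius F p k).injective (by rw [iterateFrobenius_def, iterateFrobenius_def, ha, hb])
  subst hab
  have ha0 : a ^ p ≠ 0 := pow_ne_zero p fun e => c.ne_zero (by
    rw [← ha, e, zero_pow (pow_ne_zero k (Fact.out : p.Prime).ne_zero)])
  refine MonoidHom.mem_ker.1 ((ker_pairHom (F := F)).symm ▸ ⟨Units.mk0 _ ha0, ?_⟩)
  refine Subtype.ext (Prod.ext (Units.ext ?_) (Units.ext ?_))
  · simp only [SubmonoidClass.coe_pow, Prod.pow_fst, Units.val_pow_eq_pow_val, f1]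
    ext i j; fin_cases i <;> fin_cases j <;> simp [scalK, diagK, diagPair, diag2]
  · simp only [SubmonoidClass.coe_pow, Prod.pow_snd, Units.val_pow_eq_pow_val, f2]
    ext i j; fin_cases i <;> fin_cases j <;> simp [scalK, diagK, diagPair, diag2]

/-- The bound. -/
theorem orderOf_dvd [Fintype F] (g : ↥(Cfsg.Lie.G2 F)) :
    orderOf g ∣ Fintype.card F ^ 2 - 1 ∨ orderOf g ∣ Fintype.card F ^ 2 + Fintype.card F + 1 ∨
      orderOf g ∣ Fintype.card F ^ 2 - Fintype.card F + 1 ∨ orderOf g ∣ p * (Fintype.card F - 1) ∨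
      orderOf g ∣ p * (Fintype.card F + 1) ∨ (p = 2 ∧ (orderOf g ∣ 8 ∨ orderOf g ∣ 12)) ∨
      ((p = 3 ∨ p = 5) ∧ orderOf g ∣ p ^ 2) := by
  classical
  set q := Fintype.card F
  have hp : p.Prime := Fact.out
  obtain ⟨k, m, hm, hn⟩ := Nat.exists_eq_pow_mul_and_not_dvd (orderOf_pos g).ne' p hp.ne_one
  have hbez : (1 : ℤ) = ((p ^ k : ℕ) : ℤ) * Nat.gcdA (p ^ k) m + (m : ℤ) * Nat.gcdB (p ^ k) m := by
    rw [← Nat.gcd_eq_gcd_ab, show Nat.gcd (p ^ k) m = 1 from
      Nat.Coprime.pow_left k (hp.coprime_iff_not_dvd.2 hm), Nat.cast_one]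
  set A := Nat.gcdA (p ^ k) m
  set B := Nat.gcdB (p ^ k) m
  set s := g ^ (((p ^ k : ℕ) : ℤ) * A)
  set u := g ^ ((m : ℤ) * B)
  have hgn : g ^ ((p ^ k * m : ℕ) : ℤ) = 1 := by rw [zpow_natCast, ← hn, pow_orderOf_eq_one]
  have hsu : g = s * u := by rw [← _root_.zpow_add, ← hbez, zpow_one]
  have hcsu : Commute s u := (Commute.refl g).zpow_zpow _ _
  have hsm : s ^ m = 1 := by
    rw [← zpow_natCast, ← _root_.zpow_mul, show ((p ^ k : ℕ) : ℤ) * A * (m : ℤ) = ((p ^ k * m : ℕ) : ℤ) * A by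
      push_cast; ring, _root_.zpow_mul, hgn, _root_.one_zpow]
  have hup : u ^ p ^ k = 1 := by
    rw [← zpow_natCast, ← _root_.zpow_mul, show (m : ℤ) * B * ((p ^ k : ℕ) : ℤ) = ((p ^ k * m : ℕ) : ℤ) * B by
      push_cast; ring, _root_.zpow_mul, hgn, _root_.one_zpow]
  have hdiv : ∀ a b : ℕ, u ^ a = 1 → s ^ b = 1 → orderOf g ∣ a * b := fun a b ha hb => by
    refine orderOf_dvd_of_pow_eq_one ?_
    rw [hsu, hcsu.mul_pow, pow_mul u, ha, one_pow, mul_comm a b, pow_mul, hb, one_pow, one_mul]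
  have pure : s = 1 → orderOf g ∣ p * (q - 1) ∨ (p = 2 ∧ orderOf g ∣ 8) ∨
      ((p = 3 ∨ p = 5) ∧ orderOf g ∣ p ^ 2) := fun hs => by
    obtain ⟨a2, a35, a7⟩ := pure_pow hup
    have hs1 : s ^ 1 = 1 := by rw [hs, one_pow]
    by_cases h2 : p = 2
    · exact Or.inr (Or.inl ⟨h2, by simpa using hdiv 8 1 (a2 h2) hs1⟩)
    by_cases h35 : p = 3 ∨ p = 5
    · exact Or.inr (Or.inr ⟨h35, by simpa using hdiv (p ^ 2) 1 (a35 h35) hs1⟩)
    have h7 : 7 ≤ p := by
      by_contra hlt
      push Not at hlt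
      have := hp.two_le
      interval_cases p <;> first | omega | exact absurd hp (by norm_num)
    exact Or.inl (Dvd.dvd.mul_right (by simpa using hdiv p 1 (a7 h7) hs1) _)
  by_cases hu1 : u = 1
  · let f := algebraMap F (AlgebraicClosure F)
    haveI : CharP (AlgebraicClosure F) p := charP_of_injective_ringHom f.injective p
    have hnK : (m : AlgebraicClosure F) ≠ 0 := fun e => hm ((CharP.cast_eq_zero_iff _ p m).1 e)
    obtain ⟨h, d, hd, he⟩ := exists_conj_dia (g := g2Map f s) (by rw [← map_pow, hsm, map_one]) hnK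
      (by rw [detG_g2Map, detG_eq_one, map_one])
    obtain ⟨hS, hinj⟩ := six_stable f s he
    have back : ∀ N : ℕ, d 0 ^ N = 1 ∧ d 1 ^ N = 1 → orderOf g ∣ N := fun N ⟨e0, e1⟩ => by
      refine (one_mul N) ▸ hdiv 1 N (by rw [hu1, one_pow]) (g2Map_injective f ?_)
      rw [map_pow, map_one]
      have e2 : d 2 ^ N = 1 := by
        have := congrArg (· ^ N) hd
        simpa [mul_pow, e0, e1] using this
      have : (h * g2Map f s * h⁻¹) ^ N = 1 := by
        rw [he, ← map_pow, show dia d hd ^ N = 1 from Subtype.ext (by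
          rw [Matrix.SpecialLinearGroup.coe_pow]
          show diagonal d ^ N = 1
          rw [Matrix.diagonal_pow, ← Matrix.diagonal_one]
          congr 1; funext i; fin_cases i <;> simpa), map_one]
      rw [conj_pow] at this
      exact conj_eq_one_iff.1 this
    rcases exponent_cases hinj hS hd with h' | h' | h'
    · exact Or.inl (back _ h')
    · exact Or.inr (Or.inl (back _ h'))
    · exact Or.inr (Or.inr (Or.inl (back _ h')))
  let f := algebraMap F (AlgebraicClosure F)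
  haveI : CharP (AlgebraicClosure F) p := charP_of_injective_ringHom f.injective p
  have hnK : (m : AlgebraicClosure F) ≠ 0 := fun e => hm ((CharP.cast_eq_zero_iff _ p m).1 e)
  obtain ⟨h, d, hd, he⟩ := exists_conj_dia (g := g2Map f s) (by rw [← map_pow, hsm, map_one]) hnK
    (by rw [detG_g2Map, detG_eq_one, map_one])
  obtain ⟨hS, hinj⟩ := six_stable f s he
  set u' := h * g2Map f u * h⁻¹ with hu'
  have hu'p : u' ^ p ^ k = 1 := by rw [conj_pow, ← map_pow, hup, map_one, mul_one, mul_inv_cancel]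
  have hc' : Commute (sl3Hom _ (dia d hd)) u' := by rw [← he]; exact (hcsu.map (g2Map f)).conj h
  have hu'1 : u' ≠ 1 := fun e => hu1 (g2Map_injective f ((conj_eq_one_iff.1 e).trans (map_one _).symm))
  have ub : ∀ N, u' ^ N = 1 → u ^ N = 1 := fun N e => by
    rw [conj_pow, ← map_pow] at e
    exact g2Map_injective f ((conj_eq_one_iff.1 e).trans (map_one _).symm)
  have sb : ∀ N, d 0 ^ N = 1 → d 1 ^ N = 1 → s ^ N = 1 := fun N e0 e1 => g2Map_injective f (by
    rw [map_pow, map_one]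
    have e2 : d 2 ^ N = 1 := by
      have := congrArg (· ^ N) hd
      simpa [mul_pow, e0, e1] using this
    have : (h * g2Map f s * h⁻¹) ^ N = 1 := by
      rw [he, ← map_pow, show dia d hd ^ N = 1 from Subtype.ext (by
        rw [Matrix.SpecialLinearGroup.coe_pow]
        show diagonal d ^ N = 1
        rw [Matrix.diagonal_pow, ← Matrix.diagonal_one]
        congr 1; funext i; fin_cases i <;> simpa), map_one]
    rw [conj_pow] at this
    exact conj_eq_one_iff.1 this)
  have qodd : p ≠ 2 → 2 ∣ q - 1 := fun h2 => by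
    obtain ⟨r, -, hr⟩ := FiniteField.card F p
    obtain ⟨j, hj⟩ := (hp.odd_of_ne_two h2).pow (n := (r : ℕ))
    refine ⟨j, ?_⟩
    show Fintype.card F - 1 = 2 * j
    omega
  rcases outcome hinj hS hu'p hc' hu'1 with ⟨hp1, ⟨h0, h1⟩ | ⟨h0, h1⟩⟩ | ⟨h0, h1, h3⟩ | ⟨h0, h1⟩
  · exact Or.inr (Or.inr (Or.inr (Or.inl (hdiv _ _ (ub _ hp1) (sb _ h0 h1)))))
  · exact Or.inr (Or.inr (Or.inr (Or.inr (Or.inl (hdiv _ _ (ub _ hp1) (sb _ h0 h1))))))
  · have hs3 := sb 3 h0 h1
    by_cases h2 : p = 2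
    · refine Or.inr (Or.inr (Or.inr (Or.inr (Or.inr (Or.inl ⟨h2, Or.inr ?_⟩)))))
      have := hdiv (p ^ 2) 3 (ub _ (h3 2 (by subst h2; norm_num))) hs3
      simpa [h2] using this
    by_cases h3' : p = 3
    · have hs : s = 1 := by
        have h9 : Nat.Coprime 3 m := (Nat.prime_three.coprime_iff_not_dvd).2 (by rwa [← h3'])
        simpa [Nat.Coprime.gcd_eq_one h9] using pow_gcd_eq_one.2 ⟨hs3, hsm⟩
      rcases pure hs with h' | h' | h'
      · exact Or.inr (Or.inr (Or.inr (Or.inl h')))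
      · exact absurd h'.1 h2
      · exact Or.inr (Or.inr (Or.inr (Or.inr (Or.inr (Or.inr h')))))
    have hd3 := hdiv p 3 (by simpa using ub _ (h3 1 (by have := hp.two_le; rw [pow_one]; omega))) hs3
    have hq3 : ¬ 3 ∣ q := fun hdv => by
      obtain ⟨r, -, hr⟩ := FiniteField.card F p
      have := Nat.prime_three.dvd_of_dvd_pow (hr ▸ hdv : 3 ∣ p ^ (r : ℕ))
      exact h3' ((Nat.prime_dvd_prime_iff_eq Nat.prime_three hp).1 this).symm
    have : 3 ∣ q - 1 ∨ 3 ∣ q + 1 := by omega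
    rcases this with hh | hh
    · exact Or.inr (Or.inr (Or.inr (Or.inl (hd3.trans (Nat.mul_dvd_mul_left p hh)))))
    · exact Or.inr (Or.inr (Or.inr (Or.inr (Or.inl (hd3.trans (Nat.mul_dvd_mul_left p hh))))))
  · have hs2 := sb 2 (by rw [sq]; exact h0) (by rw [sq]; exact h1)
    by_cases hs : s = 1
    · rcases pure hs with h' | h' | h'
      · exact Or.inr (Or.inr (Or.inr (Or.inl h')))
      · exact Or.inr (Or.inr (Or.inr (Or.inr (Or.inr (Or.inl ⟨h'.1, Or.inl h'.2⟩)))))
      · exact Or.inr (Or.inr (Or.inr (Or.inr (Or.inr (Or.inr h')))))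
    have h2 : p ≠ 2 := fun e => hs (by
      have h9 : Nat.Coprime 2 m := Nat.prime_two.coprime_iff_not_dvd.2 (by rwa [← e])
      simpa [Nat.Coprime.gcd_eq_one h9] using pow_gcd_eq_one.2 ⟨hs2, hsm⟩)
    have h2F : (2 : F) ≠ 0 := fun e => h2
      ((Nat.prime_dvd_prime_iff_eq hp Nat.prime_two).1 ((CharP.cast_eq_zero_iff F p 2).1 (by exact_mod_cast e)))
    have hu_p := pow_of_commute_involution h2F (by rw [← sq]; exact hs2) hs hcsu hup
    exact Or.inr (Or.inr (Or.inr (Or.inl ((hdiv p 2 hu_p hs2).trans (Nat.mul_dvd_mul_left p (qodd h2))))))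

end Cfsg.Agent.Lib.G2Spectrum
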