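import Cfsg.Agent.Lib.G2Spectrum.Base
import Cfsg.Agent.Lib.G2Spectrum.Arith

/-!
Over an algebraically closed field, an automorphism of Zorn's algebra of order prime to the characteristic and
of determinant one fixes an idempotent and is conjugate to a diagonal element of `SL₃`.
-/

set_option autoImplicit false
set_option linter.unusedSimpArgs false
set_option linter.unusedSectionVars false

namespace Cfsg.Agent.Lib.G2Spectrum

open Matrix Polynomial Cfsg.Lie Cfsg.Agent.Lib.ZornG2 Cfsg.Agent.Lib.G2Inv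

variable {K : Type*} [Field K]

theorem nZ_affine (a b : K) (y : Fin 8 → K) :
    nZ (a • y + b • zOne K) = a * a * nZ y + a * b * trZ y + b * b := by
  simp [nZ, trZ, zOne, mkZ, dot3, zA, zB]; ring

theorem trZ_affine (a b : K) (y : Fin 8 → K) : trZ (a • y + b • zOne K) = a * trZ y + 2 * b := by
  simp [trZ, zOne, mkZ]; ring

theorem mem_idem_of {e : Fin 8 → K} (ht : trZ e = 1) (hn : nZ e = 0) : e ∈ idem K := by
  refine ⟨by rw [zornMul_self, ht, hn, one_smul, zero_smul, sub_zero], fun h => ?_, fun h => ?_⟩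
  · rw [h] at ht; simp [trZ] at ht
  · rw [h, nZ_zOne] at hn; exact one_ne_zero hn

/-- The form `polZ x`. -/
def polLin (x : Fin 8 → K) : (Fin 8 → K) →ₗ[K] K where
  toFun y := polZ x y
  map_add' := polZ_add_right x
  map_smul' c y := polZ_smul_right c x y

theorem polLin_apply (x y : Fin 8 → K) : polLin x y = polZ x y := rfl

theorem act_pow_fixed {g : ↥(Cfsg.Lie.G2 K)} {x : Fin 8 → K} (h : act g x = x) : ∀ i : ℕ, act (g ^ i) x = x
  | 0 => by rw [pow_zero, act_one]
  | i + 1 => by rw [pow_succ, act_mul, h, act_pow_fixed h i]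

/-- The average over the powers. -/
def avg (g : ↥(Cfsg.Lie.G2 K)) (n : ℕ) (y : Fin 8 → K) : Fin 8 → K :=
  (n : K)⁻¹ • ∑ i ∈ Finset.range n, act (g ^ i) y

theorem avg_fixed {g : ↥(Cfsg.Lie.G2 K)} {n : ℕ} (hn : g ^ n = 1) (y : Fin 8 → K) :
    act g (avg g n y) = avg g n y := by
  rw [avg, act_smul, ← actLin_apply, map_sum]
  congr 1
  simp only [actLin_apply, ← act_mul, ← pow_succ']
  refine add_right_cancel (b := act (g ^ 0) y) ?_
  rw [← Finset.sum_range_succ' (fun i => act (g ^ i) y) n, Finset.sum_range_succ, hn, pow_zero]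

theorem polZ_avg {g : ↥(Cfsg.Lie.G2 K)} {n : ℕ} (hnK : (n : K) ≠ 0) {x : Fin 8 → K} (hx : act g x = x)
    (y : Fin 8 → K) : polZ x (avg g n y) = polZ x y := by
  rw [avg, polZ_smul_right, ← polLin_apply, map_sum]
  have e : ∀ i ∈ Finset.range n, polLin x (act (g ^ i) y) = polZ x y := fun i _ => by
    rw [polLin_apply]
    conv_lhs => rw [← act_pow_fixed hx i]
    rw [polZ_act]
  rw [Finset.sum_congr rfl e, Finset.sum_const, Finset.card_range, nsmul_eq_mul, ← mul_assoc,
    inv_mul_cancel₀ hnK, one_mul]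

/-- The Gram matrix of the polar form. -/
def gramZ (K : Type*) [Field K] : Matrix (Fin 8) (Fin 8) K :=
  Matrix.of fun i j => polZ (Pi.single i 1) (Pi.single j 1)

theorem gramZ_spec (x y : Fin 8 → K) : x ⬝ᵥ gramZ K *ᵥ y = polZ x y := by
  simp [gramZ, dotProduct, Matrix.mulVec, polZ_eq, Fin.sum_univ_eight, dot3, zA, zB, Pi.single_apply]
  ring

theorem gramZ_det : (gramZ K).det ≠ 0 := fun h => by
  obtain ⟨y, hy, hy0⟩ := Matrix.exists_mulVec_eq_zero_iff.2 h
  exact hy (polZ_nondeg fun x => by rw [polZ_comm, ← gramZ_spec, hy0, dotProduct_zero])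

theorem exists_fixed_trZ_zero {g : ↥(Cfsg.Lie.G2 K)} (h2 : (2 : K) ≠ 0) (hdet : detG g = 1) :
    ∃ x : Fin 8 → K, x ≠ 0 ∧ trZ x = 0 ∧ act g x = x := by
  let r : Fin 8 → K := ![1, 0, 0, 0, 0, 0, 0, 1]
  let R : Matrix (Fin 8) (Fin 8) K := 1 - Matrix.vecMulVec (zOne K) r
  have hR : ∀ x, R *ᵥ x = x - trZ x • zOne K := fun x => by
    simp only [R, Matrix.sub_mulVec, Matrix.one_mulVec]
    congr 1
    funext i
    simp [Matrix.mulVec, Matrix.vecMulVec, dotProduct, r, trZ, Fin.sum_univ_eight]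
    ring
  have hRdet : R.det = -1 := by
    have e : R = 1 + Matrix.replicateCol Unit (-zOne K) * Matrix.replicateRow Unit r := by
      rw [← Matrix.vecMulVec_eq Unit, Matrix.neg_vecMulVec, ← sub_eq_add_neg]
    rw [e, Matrix.det_one_add_replicateCol_mul_replicateRow]
    simp [r, dotProduct, Fin.sum_univ_eight, zOne, mkZ]
  set H : Matrix (Fin 8) (Fin 8) K := ((g : GL (Fin 8) K) : Matrix (Fin 8) (Fin 8) K) * R with hH
  have hHx : ∀ x, H *ᵥ x = act g (x - trZ x • zOne K) := fun x => by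
    rw [hH, ← Matrix.mulVec_mulVec, hR]; rfl
  have hHdet : H.det = -1 := by
    rw [hH, Matrix.det_mul, hRdet, show ((g : GL (Fin 8) K) : Matrix (Fin 8) (Fin 8) K).det = 1 from hdet, one_mul]
  have hpres : Hᵀ * gramZ K * H = gramZ K := by
    ext i j
    have e1 : (Hᵀ * gramZ K * H) i j = (H *ᵥ Pi.single i 1) ⬝ᵥ gramZ K *ᵥ (H *ᵥ Pi.single j 1) := by
      rw [Matrix.mulVec_single_one, Matrix.mulVec_single_one, Matrix.mul_assoc]
      simp [Matrix.mul_apply, dotProduct, Matrix.mulVec, Matrix.col]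
    rw [e1, gramZ_spec, hHx, hHx, polZ_act]
    show _ = polZ (Pi.single i (1 : K)) (Pi.single j 1)
    simp only [sub_eq_add_neg, ← neg_smul, polZ_add_left, polZ_add_right, polZ_smul_left, polZ_smul_right,
      polZ_zOne, polZ_comm (zOne K)]
    rw [show trZ (Pi.single i (1 : K) + -trZ (Pi.single i (1 : K)) • zOne K) = -trZ (Pi.single i (1 : K)) by
      simp [trZ, zOne, mkZ]]
    ring
  clear_value H
  have key : Hᵀ * gramZ K * (H - 1) = -((H - 1)ᵀ * gramZ K) := by
    rw [Matrix.mul_sub, hpres, Matrix.mul_one, Matrix.transpose_sub, Matrix.transpose_one, Matrix.sub_mul,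
      Matrix.one_mul, neg_sub]
  have h0 : (H - 1).det = 0 := by
    have e := congrArg Matrix.det key
    simp only [Matrix.det_mul, Matrix.det_transpose, Matrix.det_neg, hHdet, Fintype.card_fin] at e
    have e' : (2 : K) * ((gramZ K).det * (H - 1).det) = 0 := by linear_combination -e
    exact ((mul_eq_zero.1 e').resolve_left h2 |> mul_eq_zero.1).resolve_left gramZ_det
  obtain ⟨x, hx, hx0⟩ := Matrix.exists_mulVec_eq_zero_iff.2 h0
  rw [Matrix.sub_mulVec, Matrix.one_mulVec, sub_eq_zero, hHx] at hx0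
  have ht : trZ x = 0 := by
    have e : trZ (act g (x - trZ x • zOne K)) = trZ x := congrArg trZ hx0
    have e2 : ∀ z, trZ (act g z) = trZ z := fun z => by
      rw [← polZ_zOne, ← polZ_zOne z]
      conv_lhs => rw [← act_zOne g]
      rw [polZ_act]
    rw [e2] at e
    simp [trZ, zOne, mkZ] at e ⊢
    have e2 : (2 : K) * (x 0 + x 7) = 0 := by linear_combination -e
    exact (mul_eq_zero.1 e2).resolve_left h2
  rw [ht, zero_smul, sub_zero] at hx0
  exact ⟨x, hx, ht, hx0⟩

/-- An element of order prime to the characteristic and determinant one fixes an idempotent. -/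
theorem exists_idem_fixed [IsAlgClosed K] {g : ↥(Cfsg.Lie.G2 K)} {n : ℕ} (hn : g ^ n = 1) (hnK : (n : K) ≠ 0)
    (hdet : detG g = 1) : ∃ e ∈ idem K, act g e = e := by
  have hone : act g (zOne K) = zOne K := act_zOne g
  by_cases h2 : (2 : K) = 0
  · obtain ⟨y₀, hy₀⟩ : ∃ y, polZ (zOne K) y ≠ 0 := by
      by_contra hne
      push Not at hne
      have e := congrFun (polZ_nondeg hne) 0
      simp [zOne, mkZ] at e
    set y := avg g n y₀
    have hy : trZ y ≠ 0 := by
      rw [← polZ_zOne, polZ_comm, polZ_avg hnK hone]; exact hy₀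
    set z := (trZ y)⁻¹ • y with hz
    have hzt : trZ z = 1 := by
      have := trZ_affine (trZ y)⁻¹ 0 y
      rw [zero_smul, add_zero, mul_zero, add_zero] at this
      rw [hz, this, inv_mul_cancel₀ hy]
    have hzf : act g z = z := by rw [hz, act_smul, avg_fixed hn]
    obtain ⟨c, hc⟩ := IsAlgClosed.exists_root (X ^ 2 + X + C (nZ z) : K[X]) (by
      rw [show (X ^ 2 + X + C (nZ z) : K[X]) = C 1 * X ^ 2 + C 1 * X + C (nZ z) by simp]
      rw [Polynomial.degree_quadratic one_ne_zero]; decide)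
    simp [Polynomial.IsRoot] at hc
    refine ⟨(1 : K) • z + c • zOne K, mem_idem_of ?_ ?_, by rw [act_add, act_smul g (1 : K), act_smul g c, hzf, hone]⟩
    · rw [trZ_affine, hzt, h2]; ring
    · rw [nZ_affine, hzt]; linear_combination hc
  · obtain ⟨x, hx, hxt, hxf⟩ := exists_fixed_trZ_zero h2 hdet
    have main : ∃ y, act g y = y ∧ trZ y = 0 ∧ nZ y ≠ 0 := by
      by_cases hN : nZ x ≠ 0
      · exact ⟨x, hxf, hxt, hN⟩
      push Not at hN
      obtain ⟨y₀, hy₀⟩ : ∃ y, polZ x y ≠ 0 := by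
        by_contra hne
        push Not at hne
        exact hx (polZ_nondeg hne)
      set y := (1 : K) • avg g n y₀ + (-(trZ (avg g n y₀) / 2)) • zOne K with hy
      have hyf : act g y = y := by rw [hy, act_add, act_smul, act_smul, avg_fixed hn, hone]
      have hyt : trZ y = 0 := by rw [hy, trZ_affine]; field_simp; ring
      have hyp : polZ x y ≠ 0 := by
        rw [hy, polZ_add_right, polZ_smul_right, polZ_smul_right, polZ_avg hnK hxf, polZ_zOne, hxt]
        simpa using hy₀
      by_cases hNy : nZ y ≠ 0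
      · exact ⟨y, hyf, hyt, hNy⟩
      push Not at hNy
      refine ⟨x + y, by rw [act_add, hxf, hyf], ?_, ?_⟩
      · have e : trZ (x + y) = trZ x + trZ y := by simp [trZ]; ring
        rw [e, hxt, hyt, add_zero]
      · rw [show nZ (x + y) = polZ x y + nZ x + nZ y by rw [polZ]; ring, hN, hNy, add_zero, add_zero]
        exact hyp
    obtain ⟨y, hyf, hyt, hyN⟩ := main
    obtain ⟨t, ht⟩ := IsAlgClosed.exists_pow_nat_eq (-(1 / (4 * nZ y))) (n := 2) (by norm_num)
    have h4 : (4 : K) ≠ 0 := by rw [show (4 : K) = 2 * 2 by norm_num]; exact mul_ne_zero h2 h2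
    refine ⟨t • y + (2 : K)⁻¹ • zOne K, mem_idem_of ?_ ?_, by rw [act_add, act_smul, act_smul, hyf, hone]⟩
    · rw [trZ_affine, hyt]; field_simp; ring
    · rw [nZ_affine, hyt, ← sq, ht]; field_simp; ring

theorem exists_conj_diagonal [IsAlgClosed K] (M : Matrix.SpecialLinearGroup (Fin 3) K) {n : ℕ}
    (hn : M.1 ^ n = 1) (hnK : (n : K) ≠ 0) :
    ∃ (P : Matrix.SpecialLinearGroup (Fin 3) K) (d : Fin 3 → K), M.1 * P.1 = P.1 * diagonal d ∧ d 0 * d 1 * d 2 = 1 := by
  classical
  set f : Module.End K (Fin 3 → K) := Matrix.toLinAlgEquiv' M.1 with hf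
  have hs : f.IsSemisimple := by
    refine Module.End.isSemisimple_of_squarefree_aeval_eq_zero
      (separable_X_pow_sub_C (1 : K) hnK one_ne_zero).squarefree ?_
    rw [map_sub, map_pow, aeval_X, aeval_C, map_one, hf, ← map_pow, hn, map_one, sub_self]
  have htop : ⨆ μ : K, f.eigenspace μ = ⊤ := by
    have h := Module.End.iSup_maxGenEigenspace_eq_top f
    simp only [hs.isFinitelySemisimple.maxGenEigenspace_eq_eigenspace] at h
    exact h
  rw [Submodule.iSup_eq_span] at htop
  obtain ⟨b, hbs, hbspan, hli⟩ := exists_linearIndependent K (⋃ μ : K, (f.eigenspace μ : Set (Fin 3 → K)))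
  rw [htop] at hbspan
  let B := Module.Basis.mk hli (by rw [Subtype.range_coe]; exact hbspan.ge)
  haveI : Fintype b := FiniteDimensional.fintypeBasisIndex B
  have hcard : Fintype.card b = 3 := by
    rw [← Module.finrank_eq_card_basis B, Module.finrank_fin_fun]
  let e := Fintype.equivFinOfCardEq hcard
  have hev : ∀ i : Fin 3, ∃ μ : K, M.1 *ᵥ (e.symm i : Fin 3 → K) = μ • (e.symm i : Fin 3 → K) := fun i => by
    obtain ⟨μ, hμ⟩ := Set.mem_iUnion.1 (hbs (e.symm i).2)
    exact ⟨μ, by simpa [hf] using Module.End.mem_eigenspace_iff.1 hμ⟩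
  choose d hd using hev
  set v : Fin 3 → Fin 3 → K := fun i => (e.symm i : Fin 3 → K)
  let Q : Matrix (Fin 3) (Fin 3) K := Matrix.of fun r i => v i r
  have hQ : Q.det ≠ 0 := by
    have : LinearIndependent K Q.col := hli.comp e.symm e.symm.injective
    exact ((Matrix.isUnit_iff_isUnit_det Q).1 (Matrix.linearIndependent_cols_iff_isUnit.1 this)).ne_zero
  let s : Fin 3 → K := ![Q.det⁻¹, 1, 1]
  have hP : (Q * diagonal s).det = 1 := by
    rw [det_mul, det_diagonal, Fin.prod_univ_three]; simp [s, hQ]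
  have hMQ : M.1 * Q = Q * diagonal d := by
    ext r i
    rw [Matrix.mul_diagonal]
    have h := congrFun (hd i) r
    simp [Matrix.mulVec, dotProduct, v] at h
    simp [Matrix.mul_apply, Q, v]
    rw [h, mul_comm]
  refine ⟨⟨Q * diagonal s, hP⟩, d, ?_, ?_⟩
  · show M.1 * (Q * diagonal s) = Q * diagonal s * diagonal d
    rw [← Matrix.mul_assoc, hMQ, Matrix.mul_assoc, Matrix.mul_assoc, diagonal_mul_diagonal, diagonal_mul_diagonal]
    simp [mul_comm]
  · have h := congrArg Matrix.det hMQ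
    rw [det_mul, det_mul, M.2, one_mul, det_diagonal, Fin.prod_univ_three] at h
    exact mul_left_cancel₀ hQ (by rw [mul_one]; exact h.symm)

/-- The diagonal element of `SL₃`. -/
def dia (d : Fin 3 → K) (hd : d 0 * d 1 * d 2 = 1) : Matrix.SpecialLinearGroup (Fin 3) K :=
  ⟨diagonal d, by rw [det_diagonal, Fin.prod_univ_three, hd]⟩

theorem coe_dia_hom (d : Fin 3 → K) (hd : d 0 * d 1 * d 2 = 1) :
    ((sl3Hom K (dia d hd) : GL (Fin 8) K) : Matrix (Fin 8) (Fin 8) K) =
      diagonal ![1, d 0, d 1, d 2, d 1 * d 2, d 0 * d 2, d 0 * d 1, 1] := by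
  refine Matrix.ext_of_mulVec_single fun j => ?_
  show act (sl3Hom K (dia d hd)) (Pi.single j 1) = _
  rw [act_sl3Hom]
  funext i
  fin_cases j <;> fin_cases i <;>
    simp [sl3Lin, mkZ, dia, Matrix.mulVec, dotProduct, Fin.sum_univ_three, Fin.sum_univ_eight,
      Matrix.adjugate_fin_three, zA, zB, Pi.single_apply, Matrix.diagonal]

/-- The semisimple elements. -/
theorem exists_conj_dia [IsAlgClosed K] {g : ↥(Cfsg.Lie.G2 K)} {n : ℕ} (hn : g ^ n = 1) (hnK : (n : K) ≠ 0)
    (hdet : detG g = 1) :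
    ∃ (h : ↥(Cfsg.Lie.G2 K)) (d : Fin 3 → K) (hd : d 0 * d 1 * d 2 = 1), h * g * h⁻¹ = sl3Hom K (dia d hd) := by
  obtain ⟨e, he, hge⟩ := exists_idem_fixed hn hnK hdet
  obtain ⟨k, hk⟩ := exists_move he
  have hfix : act (k * g * k⁻¹) (zE K) = zE K := by
    rw [act_mul, act_mul]
    conv_lhs => rw [← hk, ← act_mul k⁻¹ k, inv_mul_cancel, act_one, hge, hk]
  set M := blockHom K ⟨k * g * k⁻¹, hfix⟩ with hM
  have hgM : k * g * k⁻¹ = sl3Hom K M := eq_sl3Hom hfix
  have hMn : M.1 ^ n = 1 := by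
    have h1 : M ^ n = 1 := sl3Hom_injective (by rw [map_pow, map_one, ← hgM, conj_pow, hn, mul_one, mul_inv_cancel])
    have := congrArg Subtype.val h1
    simpa using this
  obtain ⟨P, d, hPd, hd⟩ := exists_conj_diagonal M hMn hnK
  refine ⟨(sl3Hom K P)⁻¹ * k, d, hd, ?_⟩
  have e2 : M * P = P * dia d hd := Subtype.ext hPd
  rw [show (sl3Hom K P)⁻¹ * k * g * ((sl3Hom K P)⁻¹ * k)⁻¹ = (sl3Hom K P)⁻¹ * (k * g * k⁻¹) * sl3Hom K P by group,
    hgM, mul_assoc, ← map_mul, e2, map_mul, inv_mul_cancel_left]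

/-- The six eigenvalues are stable under the power map of the field of definition. -/
theorem six_stable {F : Type*} [Field F] [Fintype F] (f : F →+* K) (s : ↥(Cfsg.Lie.G2 F))
    {h : ↥(Cfsg.Lie.G2 K)} {d : Fin 3 → K} {hd : d 0 * d 1 * d 2 = 1}
    (he : h * g2Map f s * h⁻¹ = sl3Hom K (dia d hd)) :
    (six (d 0) (d 1) (d 2)).map (· ^ Fintype.card F) = six (d 0) (d 1) (d 2) ∧
      Function.Injective (fun x : K => x ^ Fintype.card F) := by
  classical
  obtain ⟨p, hp⟩ := CharP.exists F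
  haveI : Fact p.Prime := ⟨CharP.char_is_prime F p⟩
  haveI : CharP K p := charP_of_injective_ringHom f.injective p
  obtain ⟨⟨a, _⟩, -, ha⟩ := FiniteField.card F p
  let φ : K →+* K := iterateFrobenius K p a
  have hφ : ∀ x : K, φ x = x ^ Fintype.card F := fun x => by rw [ha]; exact iterateFrobenius_def p a x
  refine ⟨?_, fun x y hxy => φ.injective (by rw [hφ, hφ]; exact hxy)⟩
  set A : Matrix (Fin 8) (Fin 8) K := ((g2Map f s : GL (Fin 8) K) : Matrix (Fin 8) (Fin 8) K)
  set δ : Fin 8 → K := ![1, d 0, d 1, d 2, d 1 * d 2, d 0 * d 2, d 0 * d 1, 1] with hδ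
  have hdiag : ((h * g2Map f s * h⁻¹ : ↥(Cfsg.Lie.G2 K)) : GL (Fin 8) K).1 = diagonal δ := by
    rw [he]; exact coe_dia_hom d hd
  have hcp : A.charpoly = ∏ i, (X - C (δ i)) := by
    rw [← charpoly_diagonal, ← hdiag, Subgroup.coe_mul, Subgroup.coe_mul, Subgroup.coe_inv, Units.val_mul,
      Units.val_mul, Matrix.coe_units_inv, Matrix.charpoly_units_conj]
  have hinv : A.charpoly.map φ = A.charpoly := by
    show ((((s : GL (Fin 8) F) : Matrix (Fin 8) (Fin 8) F).map f).charpoly).map φ =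
      (((s : GL (Fin 8) F) : Matrix (Fin 8) (Fin 8) F).map f).charpoly
    rw [Matrix.charpoly_map, Polynomial.map_map]
    congr 1
    ext x
    rw [RingHom.comp_apply, hφ, ← map_pow, FiniteField.pow_card]
  have e1 : ((Finset.univ.val.map δ).map fun x => X - C x).prod =
      ((Finset.univ.val.map fun i => φ (δ i)).map fun x => X - C x).prod := by
    rw [Multiset.map_map, Multiset.map_map]
    show (∏ i, (X - C (δ i))) = ∏ i, (X - C (φ (δ i)))
    rw [← hcp]
    conv_lhs => rw [← hinv, hcp, Polynomial.map_prod]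
    simp
  have e2 := congrArg Polynomial.roots e1
  rw [roots_multiset_prod_X_sub_C, roots_multiset_prod_X_sub_C] at e2
  have h01 : d 0 ≠ 0 := fun h => by simp [h] at hd
  have i0 : (d 0)⁻¹ = d 1 * d 2 := (eq_inv_of_mul_eq_one_right (by rw [← hd]; ring)).symm
  have i1 : (d 1)⁻¹ = d 0 * d 2 := (eq_inv_of_mul_eq_one_right (by rw [← hd]; ring)).symm
  have i2 : (d 2)⁻¹ = d 0 * d 1 := (eq_inv_of_mul_eq_one_right (by rw [← hd]; ring)).symm
  have eA : Finset.univ.val.map δ = 1 ::ₘ 1 ::ₘ six (d 0) (d 1) (d 2) := by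
    rw [show (Finset.univ : Finset (Fin 8)).val = ([0, 7, 1, 2, 3, 4, 5, 6] : List (Fin 8)) from
      Multiset.coe_eq_coe.2 (by decide), Multiset.map_coe]
    simp [six, hδ, i0, i1, i2]
    rfl
  have eB : (Finset.univ.val.map fun i => φ (δ i)) =
      1 ::ₘ 1 ::ₘ (six (d 0) (d 1) (d 2)).map (· ^ Fintype.card F) := by
    rw [show (fun i => φ (δ i)) = (fun x => φ x) ∘ δ from rfl, ← Multiset.map_map, eA,
      Multiset.map_cons, Multiset.map_cons, map_one]
    congr 2
    exact Multiset.map_congr rfl fun x _ => hφ x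
  rw [eA, eB, Multiset.cons_inj_right, Multiset.cons_inj_right] at e2
  exact e2.symm

end Cfsg.Agent.Lib.G2Spectrum
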